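import Cfsg.Agent.Lib.PSqOne.Sys
import Mathlib.GroupTheory.Sylow
import Mathlib.GroupTheory.SpecificGroups.Cyclic
import Mathlib.Data.ZMod.Basic
import Mathlib.Algebra.Group.Subgroup.Pointwise

/-!
The point stabiliser of a doubly transitive group of degree `p² + 1` with blocks of size `p`:
two-point stabilisers have order prime to `p`, a Sylow subgroup is regular of order `p²`, and the
block kernel is faithful on every block.
-/

set_option autoImplicit false
set_option linter.unusedSectionVars false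

namespace CfsgLib.PSqOne

open MulAction

variable {G Ω : Type*} [Group G] [MulAction G Ω]

/-- The stabiliser of two points. -/
def two (G : Type*) {Ω : Type*} [Group G] [MulAction G Ω] (a b : Ω) : Subgroup G :=
  stabilizer G a ⊓ stabilizer G b

theorem mem_two {a b : Ω} {g : G} : g ∈ two G a b ↔ g • a = a ∧ g • b = b := by
  simp [two, Subgroup.mem_inf]

theorem two_comm (a b : Ω) : two G a b = two G b a := inf_comm _ _

theorem card_eq_mul_orbit (X : Subgroup G) (b : Ω) :
    Nat.card X = Nat.card ↥(X ⊓ stabilizer G b) * ((fun g => g • b) '' (X : Set G)).ncard := by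
  have h1 : (stabilizer X b).index = ((fun g => g • b) '' (X : Set G)).ncard := by
    rw [index_stabilizer]
    congr 1
    ext c
    constructor
    · rintro ⟨g, rfl⟩
      exact ⟨g, g.2, rfl⟩
    · rintro ⟨g, hg, rfl⟩
      exact ⟨⟨g, hg⟩, rfl⟩
  have h2 : Nat.card (stabilizer X b) = Nat.card ↥(X ⊓ stabilizer G b) :=
    Nat.card_congr
      { toFun := fun g => ⟨g.1, Subgroup.mem_inf.2 ⟨g.1.2, g.2⟩⟩
        invFun := fun g => ⟨⟨g.1, (Subgroup.mem_inf.1 g.2).1⟩, (Subgroup.mem_inf.1 g.2).2⟩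
        left_inv := fun _ => rfl
        right_inv := fun _ => rfl }
  rw [← h1, ← h2, Subgroup.card_mul_index]

/-- A `p`-group preserving a set of size `p` and fixing one of its points fixes all of them. -/
theorem fix_of_pgroup [Finite Ω] {p : ℕ} [hp : Fact p.Prime] {X : Subgroup G} (hX : IsPGroup p X)
    {B : Set Ω} (hB : B.ncard = p) (hinv : ∀ g ∈ X, ∀ c ∈ B, g • c ∈ B) {b : Ω} (hb : b ∈ B)
    (hfix : ∀ g ∈ X, g • b = b) : ∀ c ∈ B, ∀ g ∈ X, g • c = c := by
  intro c hc g hg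
  by_contra hne
  have : Finite ↥(orbit X c) := Set.toFinite _ |>.to_subtype
  obtain ⟨n, hn⟩ := hX.card_orbit c
  have hsub : orbit X c ⊆ B \ {b} := by
    rintro _ ⟨k, rfl⟩
    refine ⟨hinv k k.2 c hc, fun h => hne ?_⟩
    have h' : (k : G) • c = b := h
    have : c = b := by
      rw [← inv_smul_smul (k : G) c, h', hfix _ (X.inv_mem k.2)]
    rw [this, hfix g hg]
  have h1 : (orbit X c).ncard < p := by
    have := Set.ncard_le_ncard hsub
    rw [Set.ncard_sdiff_singleton_of_mem hb, hB] at this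
    have := hp.out.pos
    omega
  have h2 : 1 < (orbit X c).ncard := by
    rw [Set.one_lt_ncard]
    exact ⟨c, mem_orbit_self c, g • c, ⟨⟨g, hg⟩, rfl⟩, Ne.symm hne⟩
  rw [← Nat.card_coe_set_eq, hn] at h1 h2
  rcases n with - | n
  · simp at h2
  · have : p ≤ p ^ (n + 1) := Nat.le_self_pow (by omega) p
    omega

section Transitive

variable {p : ℕ} [Finite G] [Finite Ω] [hp : Fact p.Prime]

theorem card_stabilizer (h2 : IsMultiplyPretransitive G Ω 2) (hn : Nat.card Ω = p ^ 2 + 1)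
    {a b : Ω} (hab : a ≠ b) :
    Nat.card (stabilizer G a) = Nat.card (two G a b) * p ^ 2 := by
  rw [card_eq_mul_orbit (stabilizer G a) b]
  congr 1
  rw [show ((fun g => g • b) '' (stabilizer G a : Set G)) = {a}ᶜ from ?_, Set.ncard_compl,
    Set.ncard_singleton, hn, Nat.add_sub_cancel]
  ext c
  simp only [Set.mem_image, SetLike.mem_coe, mem_stabilizer_iff, Set.mem_compl_iff,
    Set.mem_singleton_iff]
  constructor
  · rintro ⟨g, hg, rfl⟩ h
    exact hab (smul_left_cancel g (hg.trans h.symm))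
  · intro hca
    obtain ⟨g, hga, hgb⟩ := is_two_pretransitive_iff.1 h2 hab (Ne.symm hca)
    exact ⟨g, hga, hgb⟩

/-- A Sylow subgroup of the point stabiliser is transitive on the other points. -/
theorem exists_transitive (h2 : IsMultiplyPretransitive G Ω 2) (hn : Nat.card Ω = p ^ 2 + 1)
    {a b : Ω} (hab : a ≠ b) :
    ∃ P : Subgroup G, P ≤ stabilizer G a ∧ IsPGroup p P ∧
      (∀ c, c ≠ a → ∃ g ∈ P, g • b = c) ∧
      Nat.card P = p ^ 2 * Nat.card ↥(P ⊓ stabilizer G b) ∧
      Nat.card ↥(P ⊓ stabilizer G b) = p ^ (Nat.card (two G a b)).factorization p := by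
  obtain ⟨R⟩ : Nonempty (Sylow p (stabilizer G a)) := inferInstance
  let P : Subgroup G := (R : Subgroup _).map (stabilizer G a).subtype
  have hle : P ≤ stabilizer G a := Subgroup.map_subtype_le _
  have hPp : IsPGroup p P := R.2.map _
  have hcard : Nat.card P = p ^ (2 + (Nat.card (two G a b)).factorization p) := by
    rw [Subgroup.card_map_of_injective (stabilizer G a).subtype_injective,
      Sylow.card_eq_multiplicity, card_stabilizer h2 hn hab,
      Nat.factorization_mul Nat.card_pos.ne' (pow_ne_zero _ hp.out.ne_zero),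
      Finsupp.add_apply, hp.out.factorization_pow, Finsupp.single_eq_same, add_comm]
  set e := (Nat.card (two G a b)).factorization p
  have hsub : ((fun g => g • b) '' (P : Set G)) ⊆ {a}ᶜ := by
    rintro _ ⟨g, hg, rfl⟩ h
    exact hab (smul_left_cancel g ((mem_stabilizer_iff.1 (hle hg)).trans
      (Set.mem_singleton_iff.1 h).symm))
  have hle2 : ((fun g => g • b) '' (P : Set G)).ncard ≤ p ^ 2 := by
    refine (Set.ncard_le_ncard hsub).trans ?_
    rw [Set.ncard_compl, Set.ncard_singleton, hn, Nat.add_sub_cancel]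
  obtain ⟨m, hm⟩ := IsPGroup.iff_card.1 (hPp.to_le (inf_le_left : P ⊓ stabilizer G b ≤ P))
  have hme : m ≤ e := by
    have h1 : Nat.card ↥(P ⊓ stabilizer G b) ∣ Nat.card (two G a b) :=
      Subgroup.card_dvd_of_le (inf_le_inf_right _ hle)
    rw [hm] at h1
    exact (hp.out.pow_dvd_iff_le_factorization Nat.card_pos.ne').1 h1
  have hmul := card_eq_mul_orbit P b
  rw [hcard, hm] at hmul
  have hem : e ≤ m := by
    have h1 : p ^ (2 + e) ≤ p ^ (m + 2) := by
      rw [hmul, pow_add p m 2]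
      exact Nat.mul_le_mul_left _ hle2
    have := (Nat.pow_le_pow_iff_right hp.out.one_lt).1 h1
    omega
  obtain rfl : m = e := le_antisymm hme hem
  have horb : ((fun g => g • b) '' (P : Set G)).ncard = p ^ 2 := by
    rw [pow_add, mul_comm] at hmul
    exact (Nat.eq_of_mul_eq_mul_left (pow_pos hp.out.pos _) hmul).symm
  refine ⟨P, hle, hPp, fun c hc => ?_, by rw [hcard, hm, pow_add], hm⟩
  have : ((fun g => g • b) '' (P : Set G)) = {a}ᶜ := Set.eq_of_subset_of_ncard_le hsub (by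
    rw [Set.ncard_compl, Set.ncard_singleton, hn, Nat.add_sub_cancel, horb])
  have hc' : c ∈ ({a}ᶜ : Set Ω) := hc
  rw [← this] at hc'
  obtain ⟨g, hg, hgc⟩ := hc'
  exact ⟨g, hg, hgc⟩

end Transitive

namespace Sys

variable {p : ℕ} (S : Sys G Ω p)

/-- The kernel of the action on the blocks around `a`. -/
def ker (a : Ω) : Subgroup G where
  carrier := {g | g • a = a ∧ ∀ c, c ≠ a → g • c ∈ S.blk a c}
  one_mem' := ⟨one_smul _ _, fun c hc => by simpa using S.self (Ne.symm hc)⟩
  mul_mem' := by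
    rintro g h ⟨hg, hg'⟩ ⟨hh, hh'⟩
    refine ⟨by rw [mul_smul, hh, hg], fun c hc => ?_⟩
    have h1 := hh' c hc
    have h2 := hg' (h • c) (S.ne_of_mem h1).symm
    rwa [S.eq_of_mem hc.symm h1, ← mul_smul] at h2
  inv_mem' := by
    rintro g ⟨hg, hg'⟩
    have hga : g⁻¹ • a = a := by rw [inv_smul_eq_iff, hg]
    refine ⟨hga, fun c hc => ?_⟩
    have hne : g⁻¹ • c ≠ a := fun h => hc (by rw [← smul_inv_smul g c, h, hg])
    have h1 := hg' _ hne
    rw [smul_inv_smul] at h1
    exact S.mem_symm hne.symm h1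

theorem mem_ker {a : Ω} {g : G} :
    g ∈ S.ker a ↔ g • a = a ∧ ∀ c, c ≠ a → g • c ∈ S.blk a c := Iff.rfl

theorem ker_le (a : Ω) : S.ker a ≤ stabilizer G a := fun _ h => h.1

theorem conj_mem_ker {a : Ω} {g k : G} (hg : g • a = a) (hk : k ∈ S.ker a) :
    g * k * g⁻¹ ∈ S.ker a := by
  have hga : g⁻¹ • a = a := by rw [inv_smul_eq_iff, hg]
  refine ⟨by rw [mul_smul, mul_smul, hga, hk.1, hg], fun c hc => ?_⟩
  have hne : g⁻¹ • c ≠ a := fun h => hc (by rw [← smul_inv_smul g c, h, hg])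
  have := S.smul_mem g (hk.2 _ hne)
  rwa [hg, smul_inv_smul, ← mul_smul, ← mul_smul] at this

theorem conj_mem_ker' {a : Ω} {g k : G} (hg : g • a = a) (hk : k ∈ S.ker a) :
    g⁻¹ * k * g ∈ S.ker a := by
  simpa using S.conj_mem_ker (g := g⁻¹) (by rw [inv_smul_eq_iff, hg]) hk

/-- A stabiliser element carrying a point into its block preserves the block. -/
theorem blk_stable {a b c : Ω} {g : G} (hg : g • a = a) (hab : a ≠ b) (hgb : g • b ∈ S.blk a b)
    (hc : c ∈ S.blk a b) : g • c ∈ S.blk a b := by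
  have := S.smul_mem g hc
  rwa [hg, S.eq_of_mem hab hgb] at this

theorem ker_stable {a b c : Ω} {k : G} (hk : k ∈ S.ker a) (hab : a ≠ b) (hc : c ∈ S.blk a b) :
    k • c ∈ S.blk a b :=
  S.blk_stable hk.1 hab (hk.2 b hab.symm) hc

variable [Finite G] [Finite Ω] [hp : Fact p.Prime]

/-- The subgroup of a transitive `p`-group preserving the block lies in the kernel. -/
theorem exists_index_ker {P : Subgroup G} {a b : Ω} (hab : a ≠ b) (hPa : P ≤ stabilizer G a)
    (hPp : IsPGroup p P) (htr : ∀ c, c ≠ a → ∃ g ∈ P, g • b = c)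
    (hcard : Nat.card P = p ^ 2 * Nat.card ↥(P ⊓ stabilizer G b)) :
    Nat.card ↥(P ⊓ S.ker a) = p * Nat.card ↥(P ⊓ stabilizer G b) ∧
      ∀ g ∈ P, g • b ∈ S.blk a b → g ∈ S.ker a := by
  let Q : Subgroup G :=
    { carrier := {g | g ∈ P ∧ g • b ∈ S.blk a b}
      one_mem' := ⟨P.one_mem, by simpa using S.self hab⟩
      mul_mem' := fun {g h} hg hh => ⟨P.mul_mem hg.1 hh.1, by
        rw [mul_smul]
        exact S.blk_stable (hPa hg.1) hab hg.2 hh.2⟩
      inv_mem' := fun {g} hg => ⟨P.inv_mem hg.1, by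
        have h1 := S.smul_mem g⁻¹ (S.mem_symm hab hg.2)
        rw [inv_smul_smul, mem_stabilizer_iff.1 (hPa (P.inv_mem hg.1))] at h1
        have h1' : g⁻¹ • b ∈ S.blk a b := h1
        exact h1'⟩ }
  have hQP : Q ≤ P := fun g hg => hg.1
  have hst : Q ⊓ stabilizer G b = P ⊓ stabilizer G b := le_antisymm (inf_le_inf_right _ hQP)
    fun g hg => Subgroup.mem_inf.2 ⟨⟨(Subgroup.mem_inf.1 hg).1, by
      rw [mem_stabilizer_iff.1 (Subgroup.mem_inf.1 hg).2]; exact S.self hab⟩,
      (Subgroup.mem_inf.1 hg).2⟩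
  have horb : ((fun g => g • b) '' (Q : Set G)) = S.blk a b := by
    refine Set.Subset.antisymm ?_ fun c hc => ?_
    · rintro _ ⟨g, hg, rfl⟩
      exact hg.2
    · obtain ⟨g, hg, rfl⟩ := htr c (S.ne_of_mem hc).symm
      exact ⟨g, ⟨hg, hc⟩, rfl⟩
  have hQcard : Nat.card Q = p * Nat.card ↥(P ⊓ stabilizer G b) := by
    rw [card_eq_mul_orbit Q b, hst, horb, S.card hab, mul_comm]
  have hidx : (Q.subgroupOf P).index = p := by
    have h1 := Subgroup.card_mul_index (Q.subgroupOf P)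
    rw [Nat.card_congr (Subgroup.subgroupOfEquivOfLe hQP).toEquiv, hQcard, hcard, pow_two] at h1
    exact Nat.eq_of_mul_eq_mul_left (Nat.mul_pos hp.out.pos Nat.card_pos)
      (h1.trans (by ring))
  have hnormal : (Q.subgroupOf P).Normal :=
    Subgroup.normal_of_index_eq_minFac_card (by
      rw [hidx]
      obtain ⟨n, hn⟩ := IsPGroup.iff_card.1 hPp
      have hn0 : n ≠ 0 := by
        rintro rfl
        have : p ∣ Nat.card P := hcard ▸ Dvd.dvd.mul_right (dvd_pow_self p two_ne_zero) _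
        rw [hn, pow_zero] at this
        exact hp.out.one_lt.not_ge (Nat.le_of_dvd one_pos this)
      rw [hn, hp.out.pow_minFac hn0])
  have hQK : ∀ g ∈ Q, g ∈ S.ker a := by
    intro g hg
    refine ⟨hPa hg.1, fun c hc => ?_⟩
    obtain ⟨u, hu, rfl⟩ := htr c hc
    have h1 : u⁻¹ * g * u ∈ Q := by
      simpa [Subgroup.mem_subgroupOf] using hnormal.conj_mem ⟨g, hg.1⟩ hg ⟨u⁻¹, P.inv_mem hu⟩
    have h3 := S.smul_mem u h1.2
    rw [mem_stabilizer_iff.1 (hPa hu), ← mul_smul] at h3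
    simpa [mul_assoc, mul_smul] using h3
  refine ⟨?_, fun g hg hgb => hQK g ⟨hg, hgb⟩⟩
  rw [show P ⊓ S.ker a = Q from le_antisymm (fun g hg => ⟨(Subgroup.mem_inf.1 hg).1,
    (Subgroup.mem_inf.1 hg).2.2 b hab.symm⟩) fun g hg => Subgroup.mem_inf.2 ⟨hg.1, hQK g hg⟩, hQcard]

variable [FaithfulSMul G Ω]
include S in

/-- Two-point stabilisers have order prime to `p`. -/
theorem not_dvd_two (h2 : IsMultiplyPretransitive G Ω 2) (hn : Nat.card Ω = p ^ 2 + 1)
    {a b : Ω} (hab : a ≠ b) : ¬ p ∣ Nat.card (two G a b) := by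
  intro hdvd
  obtain ⟨P, hPa, hPp, htr, hcard, hT⟩ := exists_transitive h2 hn hab
  obtain ⟨-, hQK⟩ := S.exists_index_ker hab hPa hPp htr hcard
  set T := P ⊓ stabilizer G b with hTdef
  have hTp : IsPGroup p T := hPp.to_le inf_le_left
  have hTne : T ≠ ⊥ := by
    intro h
    rw [h, Subgroup.card_bot] at hT
    have h1 : 1 ≤ (Nat.card (two G a b)).factorization p :=
      hp.out.factorization_pos_of_dvd Nat.card_pos.ne' hdvd
    have := Nat.one_lt_pow (by omega : (Nat.card (two G a b)).factorization p ≠ 0) hp.out.one_lt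
    omega
  have hmemT : ∀ g ∈ T, g • a = a ∧ g • b = b := fun g hg =>
    ⟨hPa (Subgroup.mem_inf.1 hg).1, (Subgroup.mem_inf.1 hg).2⟩
  have hfix1 : ∀ c ∈ S.blk a b, ∀ g ∈ T, g • c = c :=
    fix_of_pgroup hTp (S.card hab) (fun g hg c hc =>
      S.blk_stable (hmemT g hg).1 hab (by rw [(hmemT g hg).2]; exact S.self hab) hc)
      (S.self hab) fun g hg => (hmemT g hg).2
  have hfix2 : ∀ c ∈ S.blk b a, ∀ g ∈ T, g • c = c :=
    fix_of_pgroup hTp (S.card hab.symm) (fun g hg c hc =>
      S.blk_stable (hmemT g hg).2 hab.symm (by rw [(hmemT g hg).1]; exact S.self hab.symm) hc)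
      (S.self hab.symm) fun g hg => (hmemT g hg).1
  -- the conjugating element moving `b` to a fixed point
  have hconj : ∀ u ∈ P, (∀ g ∈ T, g • (u • b) = u • b) → ∀ g ∈ T, u⁻¹ * g * u ∈ T := by
    intro u hu hfix g hg
    refine Subgroup.mem_inf.2 ⟨P.mul_mem (P.mul_mem (P.inv_mem hu) (Subgroup.mem_inf.1 hg).1) hu,
      ?_⟩
    rw [mem_stabilizer_iff, mul_smul, mul_smul, hfix g hg, inv_smul_smul]
  have hline : ∀ d, d ≠ a → (∀ g ∈ T, g • d = d) → d ∈ S.blk a b := by
    intro d hda hd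
    by_contra hdB
    obtain ⟨y, hy, rfl⟩ := htr d hda
    let N : Subgroup G := Subgroup.normalizer (T : Set G)
    have hN : ∀ u ∈ P, (∀ g ∈ T, g • (u • b) = u • b) → u ∈ N := by
      intro u hu hfix
      rw [← N.inv_mem_iff, Subgroup.mem_normalizer_iff_map_conj_eq]
      refine Subgroup.eq_of_le_of_card_ge ?_ (le_of_eq (Subgroup.card_map_of_injective
        (MulAut.conj u⁻¹).injective).symm)
      rintro _ ⟨g, hg, rfl⟩
      simpa using hconj u hu hfix g hg
    -- the block stabiliser and `y` generate `P`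
    have hsub : P ≤ N := by
      have hQ : ∀ g ∈ P, g • b ∈ S.blk a b → g ∈ N :=
        fun g hg hgb => hN g hg fun t ht => hfix1 _ hgb t ht
      have hyN : y ∈ N := hN y hy hd
      obtain ⟨hQc, -⟩ := S.exists_index_ker hab hPa hPp htr hcard
      have hle : P ⊓ S.ker a < P ⊓ N := by
        refine lt_of_le_of_ne (fun g hg => Subgroup.mem_inf.2 ⟨(Subgroup.mem_inf.1 hg).1,
          hQ g (Subgroup.mem_inf.1 hg).1 ((Subgroup.mem_inf.1 hg).2.2 b hab.symm)⟩) fun h => ?_
        have : y ∈ P ⊓ S.ker a := h.symm ▸ Subgroup.mem_inf.2 ⟨hy, hyN⟩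
        exact hdB ((Subgroup.mem_inf.1 this).2.2 b hab.symm)
      obtain ⟨n, hn'⟩ := IsPGroup.iff_card.1 (hPp.to_le (inf_le_left : P ⊓ N ≤ P))
      obtain ⟨k, hk⟩ := IsPGroup.iff_card.1 (hPp.to_le (inf_le_left : P ⊓ S.ker a ≤ P))
      have h1 : Nat.card ↥(P ⊓ S.ker a) < Nat.card ↥(P ⊓ N) :=
        not_le.1 fun h => hle.ne (Subgroup.eq_of_le_of_card_ge hle.le h)
      rw [hn', hk] at h1
      have hkn := (Nat.pow_lt_pow_iff_right hp.out.one_lt).1 h1
      have h3 : Nat.card P ≤ Nat.card ↥(P ⊓ N) := by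
        rw [hn', hcard, pow_two, mul_assoc, ← hQc, hk, ← pow_succ']
        exact Nat.pow_le_pow_right hp.out.pos hkn
      exact fun g hg => (Subgroup.mem_inf.1 ((Subgroup.eq_of_le_of_card_ge inf_le_left h3).symm ▸ hg :
        g ∈ P ⊓ N)).2
    refine hTne (Subgroup.eq_bot_iff_forall _ |>.2 fun g hg => FaithfulSMul.eq_of_smul_eq_smul
      (α := Ω) fun c => ?_)
    rw [one_smul]
    rcases eq_or_ne c a with rfl | hca
    · exact (hmemT g hg).1
    · obtain ⟨u, hu, rfl⟩ := htr c hca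
      have h3 : u⁻¹ * g * u ∈ T := by
        exact (Subgroup.mem_normalizer_iff''.1 (hsub hu) g).1 hg
      have h4 := (hmemT _ h3).2
      rwa [mul_smul, mul_smul, inv_smul_eq_iff] at h4
  refine S.false_of_symm hp.out hn (S.symm_all h2 hab ?_)
  symm
  refine Set.eq_of_subset_of_ncard_le ?_ (by rw [S.line_card hab, S.line_card hab.symm])
  intro c hc
  rcases eq_or_ne c a with rfl | hca
  · exact Set.mem_insert _ _
  · refine Set.mem_insert_of_mem _ (hline c hca ?_)
    rcases hc with rfl | hc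
    · exact fun g hg => (hmemT g hg).2
    · exact hfix2 c hc

end Sys

end CfsgLib.PSqOne
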