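import Cfsg.Agent.Lib.PSqOne.Fix
import Mathlib.GroupTheory.Sylow

/-!
The regular Sylow subgroup of the point stabiliser is normal.
-/

set_option autoImplicit false
set_option linter.unusedSectionVars false

namespace CfsgLib.PSqOne

open MulAction
open scoped Pointwise

variable {G Ω : Type*} [Group G] [MulAction G Ω] {p : ℕ}
variable [Finite G] [Finite Ω] [hp : Fact p.Prime] [FaithfulSMul G Ω]

namespace Data

variable {S : Sys G Ω p} {a b : Ω} (D : Data S a b)
include D

/-- An element of the stabiliser preserving the block of `b` is a kernel element times an element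
fixing `b`. -/
theorem exists_two (hn : Nat.card Ω = p ^ 2 + 1) {g : G} (hga : g • a = a)
    (hgb : g • b ∈ S.blk a b) :
    ∃ k ∈ S.ker a, k⁻¹ * g ∈ two G a b := by
  obtain ⟨i, hi⟩ := D.blk_b hn hgb
  refine ⟨D.xp i, D.xp_ker i, mem_two.2 ⟨?_, ?_⟩⟩
  · rw [mul_smul, hga, inv_smul_eq_iff, (D.xp_ker i).1]
  · rw [mul_smul, hi, inv_smul_smul]

theorem two_ker_smul {h : G} (hh : h ∈ two G a b) {c d : Ω} (hc : c ∈ S.blk a d) :
    h • c ∈ S.blk a (h • d) := by
  have := S.smul_mem h hc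
  rwa [(mem_two.1 hh).1] at this

theorem other_stable {h : G} (hh : h ∈ two G a b) {c : Ω} (hc : c ∈ S.blk b a \ {a}) :
    h • c ∈ S.blk b a \ {a} := by
  obtain ⟨hha, hhb⟩ := mem_two.1 hh
  refine ⟨?_, fun e => hc.2 (smul_left_cancel h (Eq.trans e hha.symm))⟩
  have := S.smul_mem h hc.1
  rwa [hha, hhb] at this

theorem other_card : (S.blk b a \ {a}).ncard = p - 1 := by
  rw [Set.ncard_sdiff_singleton_of_mem (S.self D.ne.symm), S.card D.ne.symm]

/-- If a point of the other line lies outside, the other line meets the block of `b` trivially. -/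
theorem symm_of_subset (h2 : IsMultiplyPretransitive G Ω 2) (hn : Nat.card Ω = p ^ 2 + 1)
    (h : S.blk b a \ {a} ⊆ S.blk a b) : False := by
  refine S.false_of_symm hp.out hn (S.symm_all h2 D.ne ?_)
  symm
  refine Set.eq_of_subset_of_ncard_le ?_ (by rw [S.line_card D.ne, S.line_card D.ne.symm])
  intro c hc
  rcases eq_or_ne c a with rfl | hca
  · exact Set.mem_insert _ _
  · refine Set.mem_insert_of_mem _ ?_
    rcases hc with rfl | hc
    · exact S.self D.ne
    · exact h ⟨hc, hca⟩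

/-- The other line cannot consist of common fixed points of the kernel part. -/
theorem twins_of_subset (h2 : IsMultiplyPretransitive G Ω 2) (hn : Nat.card Ω = p ^ 2 + 1)
    (hf : ∀ a b : Ω, a ≠ b → HF S a b) (h : S.blk b a \ {a} ⊆ (col S h2 hn hf).blk a b) :
    False := by
  refine S.false_of_twins hp.out (col S h2 hn hf) D.ne
    (fun a b c hab hc hc' => col_meet S h2 hn hf hab hc hc') (S.twins_all _ h2 D.ne ?_)
  refine Set.eq_of_subset_of_ncard_le ?_ (by
    rw [Sys.line_card _ D.ne, Sys.line_card _ D.ne.symm])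
  intro c hc
  rcases eq_or_ne c a with rfl | hca
  · exact Set.mem_insert _ _
  · refine Set.mem_insert_of_mem _ ?_
    rcases hc with rfl | hc
    · exact Sys.self _ D.ne
    · exact h ⟨hc, hca⟩

/-- The kernel is not doubly transitive on a block. -/
theorem false_of_ker_trans (h2 : IsMultiplyPretransitive G Ω 2) (hn : Nat.card Ω = p ^ 2 + 1)
    (hp2 : p ≠ 2)
    (hTT : ∀ c ∈ S.blk a b, ∀ d ∈ S.blk a b, c ≠ b → d ≠ b → ∃ k ∈ S.ker a, k • b = b ∧ k • c = d) :
    False := by
  have hab := D.ne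
  have hf : ∀ c d : Ω, c ≠ d → HF S c d := fun c d hcd =>
    (D.hf_of_trans h2 hn hp2 hTT).transport h2 hab hcd
  obtain ⟨g0, hg0a, hg0b⟩ := is_two_pretransitive_iff.1 h2 hab hab.symm
  -- the two-point stabiliser is transitive on the other line
  have htr : ∀ c ∈ S.blk b a \ {a}, ∀ d ∈ S.blk b a \ {a}, ∃ h ∈ two G a b, h • c = d := by
    intro c hc d hd
    have hmv : ∀ e ∈ S.blk b a \ {a}, g0⁻¹ • e ∈ S.blk a b ∧ g0⁻¹ • e ≠ b := by
      intro e he
      refine ⟨?_, fun h => he.2 (by rw [← smul_inv_smul g0 e, h, hg0b]; rfl)⟩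
      have h1 := S.smul_mem g0⁻¹ he.1
      rwa [inv_smul_eq_iff.2 hg0a.symm, inv_smul_eq_iff.2 hg0b.symm] at h1
    obtain ⟨k, hk, hkb, hkc⟩ := hTT _ (hmv c hc).1 _ (hmv d hd).1 (hmv c hc).2 (hmv d hd).2
    refine ⟨g0 * k * g0⁻¹, mem_two.2 ⟨?_, ?_⟩, by rw [mul_smul, mul_smul, hkc, smul_inv_smul]⟩
    · rw [mul_smul, mul_smul, inv_smul_eq_iff.2 hg0b.symm, hkb, hg0b]
    · rw [mul_smul, mul_smul, inv_smul_eq_iff.2 hg0a.symm, hk.1, hg0a]
  obtain ⟨c, hc⟩ : (S.blk b a \ {a}).Nonempty := Set.nonempty_of_ncard_ne_zero (by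
    rw [D.other_card]
    have := hp.out.two_le
    omega)
  by_cases hcB : c ∈ S.blk a b
  · refine D.symm_of_subset h2 hn fun d hd => ?_
    obtain ⟨h, hh, rfl⟩ := htr c hc d hd
    exact S.blk_stable (mem_two.1 hh).1 hab (by rw [(mem_two.1 hh).2]; exact S.self hab) hcB
  have hca : c ≠ a := hc.2
  by_cases hcfix : ∀ k ∈ S.ker a, k • b = b → k • c = c
  · refine D.twins_of_subset h2 hn hf fun d hd => ?_
    obtain ⟨h, hh, rfl⟩ := htr c hc d hd
    obtain ⟨hha, hhb⟩ := mem_two.1 hh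
    have := (col S h2 hn hf).smul_mem h (show c ∈ (col S h2 hn hf).blk a b from ⟨hca, hcfix⟩)
    rwa [hha, hhb] at this
  -- the other line is the moved part of one block
  obtain ⟨d0, ⟨hd0, hd0fix⟩, -⟩ := hf a b hab c hca
  have hd0a : d0 ≠ a := (S.ne_of_mem hd0).symm
  have hblk : S.blk a d0 = S.blk a c := S.eq_of_mem hca.symm hd0
  have hcd0 : c ≠ d0 := fun e => hcfix (e ▸ hd0fix)
  have hsub : S.blk a c \ {d0} ⊆ S.blk b a \ {a} := by
    intro z hz
    obtain ⟨k, hk, hkb, rfl⟩ := D.trans_of_fixed hTT hd0a hd0fix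
      (show c ∈ S.blk a d0 from hblk.symm ▸ S.self hca.symm) (hblk.symm ▸ hz.1) hcd0 hz.2
    exact D.other_stable (mem_two.2 ⟨hk.1, hkb⟩) hc
  have heq : S.blk a c \ {d0} = S.blk b a \ {a} := Set.eq_of_subset_of_ncard_le hsub (by
    rw [D.other_card, Set.ncard_sdiff_singleton_of_mem hd0, S.card hca.symm])
  have hstab : ∀ g : G, g • a = a → g • b ∈ S.blk a b → g • c ∈ S.blk a c := by
    intro g hga hgb
    obtain ⟨k, hk, hh⟩ := D.exists_two hn hga hgb
    have h1 : (k⁻¹ * g) • c ∈ S.blk a c := by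
      have := D.other_stable hh hc
      rw [← heq] at this
      exact this.1
    have h3 := S.ker_stable hk hca.symm h1
    rwa [← mul_smul, mul_inv_cancel_left] at h3
  obtain ⟨w, hw, rfl⟩ := D.trans c hca
  have hwk : w ∉ S.ker a := fun h => hcB (h.2 b hab.symm)
  -- block stabilisers
  let St : Ω → Subgroup G := fun v => stabilizer G a ⊓ stabilizer G (S.blk a v)
  have hSt : ∀ {v : Ω} {g : G}, v ≠ a → (g ∈ St v ↔ g • a = a ∧ g • v ∈ S.blk a v) := by
    intro v g hv
    simp only [St, Subgroup.mem_inf, mem_stabilizer_iff]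
    refine and_congr_right fun hga => ?_
    constructor
    · intro h
      have h1 := Set.smul_mem_smul_set (a := g) (S.self hv.symm)
      rwa [h] at h1
    · intro h
      have h1 := S.smul_blk g a v
      rw [hga, S.eq_of_mem hv.symm h] at h1
      exact h1
  have hconj : ∀ v ∈ D.P, ∀ g, g ∈ St (v • b) ↔ v⁻¹ * g * v ∈ St b := by
    intro v hv g
    rw [hSt (D.smul_b_ne hv), hSt hab.symm]
    have hva := D.smul_a hv
    constructor
    · rintro ⟨hga, hgv⟩
      refine ⟨by rw [mul_smul, mul_smul, hva, hga, inv_smul_eq_iff, hva], ?_⟩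
      have := S.smul_mem v⁻¹ hgv
      rw [D.smul_a (D.P.inv_mem hv), inv_smul_smul, ← mul_smul, ← mul_smul] at this
      exact this
    · rintro ⟨hga, hgb⟩
      rw [mul_smul, mul_smul, hva, inv_smul_eq_iff, hva] at hga
      refine ⟨hga, ?_⟩
      have := S.smul_mem v hgb
      rwa [hva, mul_smul, mul_smul, smul_inv_smul] at this
  have hle : St b ≤ St (w • b) := fun g hg => by
    obtain ⟨h1, h3⟩ := (hSt hab.symm).1 hg
    exact (hSt (D.smul_b_ne hw)).2 ⟨h1, hstab g h1 h3⟩
  have hwN : w⁻¹ ∈ Subgroup.normalizer (St b : Set G) := by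
    rw [Subgroup.mem_normalizer_iff_map_conj_eq]
    refine Subgroup.eq_of_le_of_card_ge ?_ (Subgroup.card_map_of_injective
      (MulAut.conj w⁻¹).injective).symm.le
    rintro _ ⟨g, hg, rfl⟩
    simpa using (hconj w hw g).1 (hle hg)
  have hPN : D.P ≤ Subgroup.normalizer (St b : Set G) :=
    D.le_of_mem hn _ (Subgroup.le_normalizer ((hSt hab.symm).2 ⟨D.x_ker.1, D.x_ker.2 b hab.symm⟩))
      hw hwk (by simpa using (Subgroup.normalizer (St b : Set G)).inv_mem hwN)
  have htwo : ∀ h ∈ two G a b, h ∈ S.ker a := by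
    intro h hh
    obtain ⟨hha, hhb⟩ := mem_two.1 hh
    refine ⟨hha, fun d hd => ?_⟩
    obtain ⟨v, hv, rfl⟩ := D.trans d hd
    have h1 : h ∈ St b := (hSt hab.symm).2 ⟨hha, by rw [hhb]; exact S.self hab⟩
    have h3 := (hconj v hv h).2 ((Subgroup.mem_normalizer_iff''.1 (hPN hv) h).1 h1)
    exact ((hSt hd).1 h3).2
  -- so the transversal system has symmetric lines
  refine (col S h2 hn hf).false_of_symm hp.out hn ((col S h2 hn hf).symm_all h2 hab ?_)
  have hfixset : insert a ((col S h2 hn hf).blk a b) = {v | ∀ h ∈ two G a b, h • v = v} := by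
    refine Set.Subset.antisymm ?_ fun v hv => ?_
    · rintro v (rfl | hv) h hh
      · exact (mem_two.1 hh).1
      · exact hv.2 h (htwo h hh) (mem_two.1 hh).2
    · rcases eq_or_ne v a with rfl | hva
      · exact Set.mem_insert _ _
      · exact Set.mem_insert_of_mem _ ⟨hva, fun k hk hkb => hv k (mem_two.2 ⟨hk.1, hkb⟩)⟩
  have h3 : insert b ((col S h2 hn hf).blk b a) ⊆ {v | ∀ h ∈ two G a b, h • v = v} := by
    intro v hv h hh
    obtain ⟨hha, hhb⟩ := mem_two.1 hh
    have hswap : g0⁻¹ * h * g0 ∈ two G a b := mem_two.2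
      ⟨by rw [mul_smul, mul_smul, hg0a, hhb, inv_smul_eq_iff, hg0a],
        by rw [mul_smul, mul_smul, hg0b, hha, inv_smul_eq_iff, hg0b]⟩
    have h4 : g0⁻¹ • v ∈ insert a ((col S h2 hn hf).blk a b) := by
      rcases hv with rfl | hv
      · exact Or.inl (inv_smul_eq_iff.2 hg0a.symm)
      · have := (col S h2 hn hf).smul_mem g0⁻¹ hv
        rw [inv_smul_eq_iff.2 hg0a.symm, inv_smul_eq_iff.2 hg0b.symm] at this
        exact Or.inr this
    rw [hfixset] at h4
    have h5 := h4 _ hswap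
    rwa [mul_smul, mul_smul, smul_inv_smul, smul_left_cancel_iff] at h5
  refine (Set.eq_of_subset_of_ncard_le (h3.trans hfixset.symm.le) ?_).symm
  rw [Sys.line_card _ hab, Sys.line_card _ hab.symm]

/-- The Sylow subgroup is normal once generators are conjugated into it. -/
theorem normal_of_gen (hn : Nat.card Ω = p ^ 2 + 1) {y : G} (hy : y ∈ D.P) (hyk : y ∉ S.ker a)
    {g : G} (hx : g * D.x * g⁻¹ ∈ D.P) (hy' : g * y * g⁻¹ ∈ D.P) {u : G} (hu : u ∈ D.P) :
    g * u * g⁻¹ ∈ D.P :=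
  D.le_of_mem hn (D.P.comap (MulAut.conj g).toMonoidHom) hx hy hyk hy' hu

/-- A `p`-element normalising the Sylow subgroup lies in it. -/
theorem mem_of_normalizes (h2 : IsMultiplyPretransitive G Ω 2) (hn : Nat.card Ω = p ^ 2 + 1) {w : G}
    (hwa : w • a = a) (hwp : IsPGroup p (Subgroup.zpowers w))
    (hwN : w ∈ Subgroup.normalizer (D.P : Set G)) : w ∈ D.P := by
  have hP : IsPGroup p D.P := IsPGroup.of_card (n := 2) D.card
  have hle : D.P ⊔ Subgroup.zpowers w ≤ stabilizer G a :=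
    sup_le D.le (Subgroup.zpowers_le.2 hwa)
  obtain ⟨m, hm⟩ := IsPGroup.iff_card.1
    (IsPGroup.to_sup_of_normal_left' hP hwp (Subgroup.zpowers_le.2 hwN))
  have hm2 : m ≤ 2 := by
    by_contra hlt
    have h1 := (pow_dvd_pow p (by omega : 3 ≤ m)).trans (hm ▸ Subgroup.card_dvd_of_le hle)
    rw [card_stabilizer h2 hn D.ne, pow_succ'] at h1
    exact S.not_dvd_two h2 hn D.ne (Nat.dvd_of_mul_dvd_mul_right (pow_pos hp.out.pos 2) h1)
  have := Subgroup.eq_of_le_of_card_ge (le_sup_left : D.P ≤ D.P ⊔ Subgroup.zpowers w)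
    (by rw [hm, D.card]; exact Nat.pow_le_pow_right hp.out.pos hm2)
  rw [this]
  exact Subgroup.mem_sup_right (Subgroup.mem_zpowers w)

/-- Kernel elements normalise the Sylow subgroup when the block part is normal. -/
theorem ker_normalizes (h2 : IsMultiplyPretransitive G Ω 2) (hn : Nat.card Ω = p ^ 2 + 1)
    (hQN : ∀ g : G, g • a = a → g * D.x * g⁻¹ ∈ Subgroup.zpowers D.x) {k : G}
    (hk : k ∈ S.ker a) {u : G} (hu : u ∈ D.P) : k * u * k⁻¹ ∈ D.P := by
  obtain ⟨m, hm0, hm⟩ := D.exists_mult hQN hk.1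
  have hm' : k * D.xp (m⁻¹) * k⁻¹ = D.x := by
    rw [hm, mul_inv_cancel_right, mul_inv_cancel₀ hm0, D.xp_one]
  have hc : Commute (k * u * k⁻¹ * u⁻¹) D.x := by
    have h1 : Commute (k * u * k⁻¹) D.x := by
      rw [← hm']
      exact (show Commute u (D.xp m⁻¹) from D.comm hu (D.xp_mem _)).map (MulAut.conj k).toMonoidHom
    exact h1.mul_left (show Commute u D.x from D.comm hu D.x_mem).inv_left
  have hcK : k * u * k⁻¹ * u⁻¹ ∈ S.ker a := by
    rw [mul_assoc, mul_assoc, ← mul_assoc u]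
    exact (S.ker a).mul_mem hk (S.conj_mem_ker (D.smul_a hu) ((S.ker a).inv_mem hk))
  obtain ⟨i, hi⟩ := D.mem_of_zpowers (D.mem_zpowers_of_commute h2 hn hcK hc)
  rw [mul_inv_eq_iff_eq_mul] at hi
  rw [hi]
  exact D.P.mul_mem (D.xp_mem i) hu

/-- The regular Sylow subgroup is normal in the point stabiliser. -/
theorem normal_P (h2 : IsMultiplyPretransitive G Ω 2) (hn : Nat.card Ω = p ^ 2 + 1) {g : G}
    (hg : g • a = a) {u : G} (hu : u ∈ D.P) : g * u * g⁻¹ ∈ D.P := by
  classical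
  have hab := D.ne
  rcases D.ker_dichotomy h2 hn with ⟨hp2, hTT⟩ | hQN
  · exact (D.false_of_ker_trans h2 hn hp2 hTT).elim
  obtain ⟨y, hy, hyk⟩ := D.exists_y hn
  -- the action on blocks
  let Bl := {B : Set Ω // ∃ c, c ≠ a ∧ B = S.blk a c}
  let e : ZMod p → Bl := fun j => ⟨S.blk a (D.pt y 0 j), _, D.pt_ne hy 0 j, rfl⟩
  have he : Function.Bijective e := by
    constructor
    · intro i j h
      have h1 : S.blk a (D.pt y 0 i) = S.blk a (D.pt y 0 j) := congrArg Subtype.val h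
      have h3 := S.self (D.pt_ne hy 0 i).symm
      rw [h1] at h3
      exact (D.pt_mem_blk_iff hn hy hyk).1 h3
    · rintro ⟨B, c, hc, rfl⟩
      obtain ⟨i, j, rfl⟩ := D.exists_pt hn hy hyk hc
      refine ⟨j, Subtype.ext ?_⟩
      exact (S.eq_of_mem (D.pt_ne hy 0 j).symm ((D.pt_mem_blk_iff hn hy hyk).2 rfl)).symm
  have hBl : Nat.card Bl = p := by rw [← Nat.card_eq_of_bijective e he, Nat.card_zmod]
  let act : MulAction (stabilizer G a) Bl :=
    { smul := fun g B => ⟨(fun v => (g : G) • v) '' B.1, by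
        obtain ⟨c, hc, hB⟩ := B.2
        refine ⟨(g : G) • c, fun e => hc (smul_left_cancel (g : G) (e.trans g.2.symm)), ?_⟩
        rw [hB, S.smul_blk, g.2]⟩
      one_smul := fun B => Subtype.ext (show (fun v => (1 : G) • v) '' B.1 = B.1 by simp)
      mul_smul := fun g h B => Subtype.ext (show (fun v => ((g : G) * h) • v) '' B.1 =
        (fun v => (g : G) • v) '' ((fun v => (h : G) • v) '' B.1) by
          simp only [Set.image_image, mul_smul]) }
  let _inst := act
  have : Finite Bl := Finite.of_surjective e he.2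
  let τ : stabilizer G a →* Equiv.Perm Bl := toPermHom _ _
  have hτblk : ∀ (g : stabilizer G a) (c : Ω) (hc : c ≠ a),
      (τ g ⟨S.blk a c, c, hc, rfl⟩).1 = S.blk a ((g : G) • c) := by
    intro g c hc
    show (fun v => (g : G) • v) '' S.blk a c = _
    rw [S.smul_blk, g.2]
  have hτker : ∀ g : stabilizer G a, τ g = 1 ↔ (g : G) ∈ S.ker a := by
    intro g
    constructor
    · intro h
      refine ⟨g.2, fun c hc => ?_⟩
      have h1 := hτblk g c hc
      rw [h, Equiv.Perm.one_apply] at h1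
      have h3 : (g : G) • c ∈ S.blk a ((g : G) • c) :=
        S.self (fun e => hc (smul_left_cancel (g : G) (g.2.trans e).symm))
      rw [← h1] at h3
      exact h3
    · intro h
      refine Equiv.ext fun ⟨B, c, hc, hB⟩ => Subtype.ext ?_
      subst hB
      rw [hτblk g c hc, S.eq_of_mem hc.symm (h.2 c hc)]
      rfl
  let ys : stabilizer G a := ⟨y, D.le hy⟩
  have hord : orderOf (τ ys) = p := by
    refine orderOf_eq_prime ?_ fun h => hyk ((hτker _).1 h)
    rw [← map_pow, hτker]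
    exact Subgroup.zpowers_le.2 D.x_ker (D.pow_p_mem hn hy)
  rcases prime_dichotomy hBl τ.range ⟨ys, rfl⟩ hord with hT | hT
  swap
  · -- the cycle is normalised on the blocks
    refine D.normal_of_gen hn hy hyk ?_ ?_ hu
    · obtain ⟨i, hi⟩ := D.mem_of_zpowers (hQN g hg)
      rw [hi]
      exact D.xp_mem i
    obtain ⟨n, hn'⟩ := Subgroup.mem_zpowers_iff.1 (hT (τ ⟨g, hg⟩) ⟨_, rfl⟩)
    have hk : g * y * g⁻¹ * (y ^ n)⁻¹ ∈ S.ker a := by
      have h1 : τ (⟨g, hg⟩ * ys * ⟨g, hg⟩⁻¹ * (ys ^ n)⁻¹) = 1 := by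
        rw [map_mul, map_mul, map_mul, map_inv, map_inv, map_zpow, hn', mul_inv_cancel]
      simpa [ys] using (hτker _).1 h1
    refine D.mem_of_normalizes h2 hn ?_ ?_ ?_
    · rw [mul_smul, mul_smul, show g⁻¹ • a = a by rw [inv_smul_eq_iff, hg], D.smul_a hy, hg]
    · have hP : IsPGroup p D.P := IsPGroup.of_card (n := 2) D.card
      refine ((hP.to_le (Subgroup.zpowers_le.2 hy)).map (MulAut.conj g).toMonoidHom).to_le ?_
      rw [MonoidHom.map_zpowers]
      exact le_of_eq rfl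
    · have hsplit : g * y * g⁻¹ = (g * y * g⁻¹ * (y ^ n)⁻¹) * y ^ n := by group
      rw [hsplit]
      refine Subgroup.mul_mem _ ?_ (Subgroup.le_normalizer (D.P.zpow_mem hy n))
      rw [Subgroup.mem_normalizer_iff]
      intro v
      refine ⟨D.ker_normalizes h2 hn hQN hk, fun hv => ?_⟩
      have := D.ker_normalizes h2 hn hQN ((S.ker a).inv_mem hk) hv
      simpa [mul_assoc] using this
  -- the blocks other than that of `b` are permuted transitively by the two-point stabiliser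
  obtain ⟨g0, hg0a, hg0b⟩ := is_two_pretransitive_iff.1 h2 hab hab.symm
  have htr : ∀ c d, c ≠ a → d ≠ a → c ∉ S.blk a b → d ∉ S.blk a b →
      ∃ h ∈ two G a b, h • c ∈ S.blk a d := by
    intro c d hc hd hcB hdB
    have hne : ∀ {v : Ω}, (hv : v ≠ a) → v ∉ S.blk a b →
        (⟨S.blk a b, b, hab.symm, rfl⟩ : Bl) ≠ ⟨S.blk a v, v, hv, rfl⟩ := by
      intro v hv hvB h
      have h1 : S.blk a b = S.blk a v := congrArg Subtype.val h
      exact hvB (h1 ▸ S.self hv.symm)
    obtain ⟨⟨σ, gg, rfl⟩, h1, h3⟩ := is_two_pretransitive_iff.1 hT (hne hc hcB) (hne hd hdB)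
    have h1' : S.blk a ((gg : G) • b) = S.blk a b :=
      (hτblk gg b hab.symm).symm.trans (congrArg Subtype.val h1)
    have h3' : S.blk a ((gg : G) • c) = S.blk a d :=
      (hτblk gg c hc).symm.trans (congrArg Subtype.val h3)
    have hgb : (gg : G) • b ∈ S.blk a b :=
      h1' ▸ S.self (fun e => hab (smul_left_cancel (gg : G) (gg.2.trans e)))
    obtain ⟨k, hk, hh⟩ := D.exists_two hn gg.2 hgb
    refine ⟨_, hh, ?_⟩
    rw [mul_smul]
    exact S.ker_stable ((S.ker a).inv_mem hk) hd.symm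
      (h3' ▸ S.self (fun e => hc (smul_left_cancel (gg : G) (gg.2.trans e)).symm))
  by_cases hBsub : S.blk b a \ {a} ⊆ S.blk a b
  · exact (D.symm_of_subset h2 hn hBsub).elim
  obtain ⟨c0, hc0, hc0B⟩ := Set.not_subset.1 hBsub
  -- the other line is a transversal of the other blocks
  let R : Set Bl := {B | B.1 ≠ S.blk a b}
  let φ : Ω → Set Ω := fun v => S.blk a v
  have hsurj : ∀ d, d ≠ a → d ∉ S.blk a b → ∃ v ∈ S.blk b a \ {a}, v ∈ S.blk a d := by
    intro d hd hdB
    obtain ⟨h, hh, hhc⟩ := htr c0 d hc0.2 hd hc0B hdB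
    exact ⟨h • c0, D.other_stable hh hc0, hhc⟩
  have himg : (Subtype.val '' R) ⊆ φ '' (S.blk b a \ {a}) := by
    rintro _ ⟨⟨B, d, hd, rfl⟩, hB, rfl⟩
    obtain ⟨v, hv, hvd⟩ := hsurj d hd (fun h => hB (S.eq_of_mem hab h))
    exact ⟨v, hv, S.eq_of_mem hd.symm hvd⟩
  have hRcard : (Subtype.val '' R).ncard = p - 1 := by
    rw [Set.ncard_image_of_injective _ Subtype.val_injective,
      show R = {(⟨S.blk a b, b, hab.symm, rfl⟩ : Bl)}ᶜ from ?_, Set.ncard_compl,
      Set.ncard_singleton, hBl]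
    ext B
    exact ⟨fun h e => h (congrArg Subtype.val e), fun h e => h (Subtype.ext e)⟩
  have hle : (φ '' (S.blk b a \ {a})).ncard ≤ p - 1 := by
    rw [← D.other_card]; exact Set.ncard_image_le (Set.toFinite _)
  have heq : Subtype.val '' R = φ '' (S.blk b a \ {a}) :=
    Set.eq_of_subset_of_ncard_le himg (by rw [hRcard]; exact hle)
  have hinj : Set.InjOn φ (S.blk b a \ {a}) :=
    (Set.ncard_image_iff (Set.toFinite _)).1 (by rw [← heq, hRcard, D.other_card])
  have hout : ∀ v ∈ S.blk b a \ {a}, v ∉ S.blk a b := by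
    intro v hv hvB
    obtain ⟨B, hB, hBv⟩ := heq.symm ▸ Set.mem_image_of_mem φ hv
    exact hB (hBv.trans (S.eq_of_mem hab hvB))
  have htrO : ∀ c ∈ S.blk b a \ {a}, ∀ d ∈ S.blk b a \ {a}, ∃ h ∈ two G a b, h • c = d := by
    intro c hc d hd
    obtain ⟨h, hh, hhc⟩ := htr c d hc.2 hd.2 (hout c hc) (hout d hd)
    exact ⟨h, hh, hinj (D.other_stable hh hc) hd (S.eq_of_mem (Ne.symm hd.2) hhc)⟩
  by_cases hKb : ∃ k ∈ S.ker a, k • b = b ∧ k ≠ 1
  · obtain ⟨k, hk, hkb, hk1⟩ := hKb
    have hf : ∀ c d : Ω, c ≠ d → HF S c d := fun c d hcd =>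
      (D.hf_of_ne h2 hn hQN hk hkb hk1).transport h2 hab hcd
    refine (D.twins_of_subset h2 hn hf fun v hv => ⟨hv.2, fun l hl hlb => ?_⟩).elim
    exact hinj (D.other_stable (mem_two.2 ⟨hl.1, hlb⟩) hv) hv
      (S.eq_of_mem (Ne.symm hv.2) (hl.2 v hv.2))
  push Not at hKb
  -- the two-point stabiliser is abelian and regular on the other line
  have hswap : ∀ h ∈ two G a b, g0⁻¹ * h * g0 ∈ two G a b := fun h hh => mem_two.2
    ⟨by rw [mul_smul, mul_smul, hg0a, (mem_two.1 hh).2, inv_smul_eq_iff, hg0a],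
      by rw [mul_smul, mul_smul, hg0b, (mem_two.1 hh).1, inv_smul_eq_iff, hg0b]⟩
  have hcfixB : ∀ h ∈ two G a b, ∀ l ∈ two G a b, ∀ v ∈ S.blk a b,
      (h * l) • v = (l * h) • v := by
    intro h hh l hl v hv
    obtain ⟨i, rfl⟩ := D.blk_b hn hv
    obtain ⟨hha, hhb⟩ := mem_two.1 hh
    obtain ⟨hla, hlb⟩ := mem_two.1 hl
    obtain ⟨m, -, hm⟩ := D.exists_mult hQN hha
    obtain ⟨n, -, hn'⟩ := D.exists_mult hQN hla
    rw [← mul_smul, ← mul_smul, mul_assoc, hn', ← mul_assoc, hm, mul_assoc l, hm, ← mul_assoc l,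
      hn', mul_assoc, mul_assoc, mul_smul, mul_smul, mul_smul, mul_smul, hlb, hhb, hlb, ← mul_assoc,
      ← mul_assoc, mul_comm m n]
  have hcomm : ∀ h ∈ two G a b, ∀ l ∈ two G a b, h * l = l * h := by
    intro h hh l hl
    have hfixO : ∀ v ∈ S.blk b a, (h * l) • v = (l * h) • v := by
      intro v hv
      have hv' : g0⁻¹ • v ∈ S.blk a b := by
        have h1 := S.smul_mem g0⁻¹ hv
        rwa [inv_smul_eq_iff.2 hg0a.symm, inv_smul_eq_iff.2 hg0b.symm] at h1
      have h3 := congrArg (g0 • ·) (hcfixB _ (hswap h hh) _ (hswap l hl) _ hv')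
      simpa [mul_smul] using h3
    set c := (l * h)⁻¹ * (h * l) with hcdef
    have hc2 : c ∈ two G a b :=
      (two G a b).mul_mem ((two G a b).inv_mem ((two G a b).mul_mem hl hh))
        ((two G a b).mul_mem hh hl)
    have hcK : c ∈ S.ker a := by
      refine ⟨(mem_two.1 hc2).1, fun w hw => ?_⟩
      by_cases hwB : w ∈ S.blk a b
      · rw [hcdef, mul_smul, hcfixB h hh l hl w hwB, inv_smul_smul]
        exact S.self hw.symm
      · obtain ⟨v, hv, hvw⟩ := hsurj w hw hwB
        have hcv : c • v = v := by rw [hcdef, mul_smul, hfixO v hv.1, inv_smul_smul]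
        have h1 := D.two_ker_smul (S := S) hc2 (S.mem_symm hw.symm hvw)
        rw [hcv, S.eq_of_mem hw.symm hvw] at h1
        exact h1
    exact (inv_mul_eq_one.1 (hKb c hcK (mem_two.1 hc2).2)).symm
  have hcard : Nat.card (two G a b) = p - 1 := by
    rw [← D.other_card, ← Nat.card_coe_set_eq]
    refine Nat.card_congr (Equiv.ofBijective
      (fun h => (⟨(h : G) • c0, D.other_stable h.2 hc0⟩ : ↥(S.blk b a \ {a}))) ⟨?_, ?_⟩)
    · intro h l hhl
      have hhl' : (h : G) • c0 = (l : G) • c0 := congrArg Subtype.val hhl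
      set c := (l : G)⁻¹ * h
      have hc2 : c ∈ two G a b := (two G a b).mul_mem ((two G a b).inv_mem l.2) h.2
      have hc0' : c • c0 = c0 := by rw [mul_smul, hhl', inv_smul_smul]
      have hcK : c ∈ S.ker a := by
        refine ⟨(mem_two.1 hc2).1, fun w hw => ?_⟩
        by_cases hwB : w ∈ S.blk a b
        · rw [S.eq_of_mem hab hwB]
          exact S.blk_stable (mem_two.1 hc2).1 hab
            (by rw [(mem_two.1 hc2).2]; exact S.self hab) hwB
        · obtain ⟨v, hv, hvw⟩ := hsurj w hw hwB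
          obtain ⟨t, ht, rfl⟩ := htrO c0 hc0 v hv
          have hcv : c • (t • c0) = t • c0 := by
            rw [← mul_smul, hcomm c hc2 t ht, mul_smul, hc0']
          have h1 := D.two_ker_smul (S := S) hc2 (S.mem_symm hw.symm hvw)
          rw [hcv, S.eq_of_mem hw.symm hvw] at h1
          exact h1
      exact Subtype.ext (inv_mul_eq_one.1 (hKb c hcK (mem_two.1 hc2).2)).symm
    · rintro ⟨v, hv⟩
      obtain ⟨h, hh, rfl⟩ := htrO c0 hc0 v hv
      exact ⟨⟨h, hh⟩, rfl⟩
  -- Sylow's congruence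
  let PS : Subgroup (stabilizer G a) := D.P.subgroupOf _
  have hPS : Nat.card PS = p ^ 2 := by
    rw [Nat.card_congr (Subgroup.subgroupOfEquivOfLe D.le).toEquiv, D.card]
  have hidx : PS.index = p - 1 := by
    have h1 := Subgroup.card_mul_index PS
    rw [hPS, card_stabilizer h2 hn hab, hcard, mul_comm (p - 1)] at h1
    exact Nat.eq_of_mul_eq_mul_left (pow_pos hp.out.pos 2) h1
  have h2p := hp.out.two_le
  let R' : Sylow p (stabilizer G a) := (IsPGroup.of_card hPS).toSylow (by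
    rw [hidx]
    intro h
    have := Nat.le_of_dvd (by omega) h
    omega)
  have hcount : Nat.card (Sylow p (stabilizer G a)) = 1 := by
    have h1 := card_sylow_modEq_one p (stabilizer G a)
    have h3 : Nat.card (Sylow p (stabilizer G a)) ∣ p - 1 := by
      have := Sylow.card_dvd_index R'
      rwa [show (R' : Subgroup (stabilizer G a)) = PS from rfl, hidx] at this
    have h4 := Nat.le_of_dvd (by omega) h3
    have h5 : 0 < Nat.card (Sylow p (stabilizer G a)) := Nat.card_pos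
    have h6 := Nat.ModEq.eq_of_lt_of_lt h1 (by omega) (by omega)
    exact h6
  have : Subsingleton (Sylow p (stabilizer G a)) := (Nat.card_eq_one_iff_unique.1 hcount).1
  have hnorm : (R' : Subgroup (stabilizer G a)).Normal := Sylow.normal_of_subsingleton _
  exact hnorm.conj_mem ⟨u, D.le hu⟩ hu ⟨g, hg⟩

end Data

end CfsgLib.PSqOne
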