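import Cfsg.Agent.Lib.PSqOne.Cases

/-!
The two characters of the two-point stabiliser, and the fixed points of its elements.
-/

set_option autoImplicit false
set_option linter.unusedSectionVars false

namespace CfsgLib.PSqOne

open MulAction

variable {G Ω : Type*} [Group G] [MulAction G Ω] {p : ℕ}
variable [Finite G] [Finite Ω] [hp : Fact p.Prime] [FaithfulSMul G Ω]

namespace Data

variable {S : Sys G Ω p} {a b : Ω} (D : Data S a b)

/-- The multipliers of the two-point stabiliser on the two factors of the Sylow subgroup. -/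
structure Chars (y : G) where
  /-- multiplier on the block part -/
  f : G → ZMod p
  /-- multiplier on the blocks -/
  g : G → ZMod p
  f_mul : ∀ h ∈ two G a b, ∀ l ∈ two G a b, f (h * l) = f h * f l
  g_mul : ∀ h ∈ two G a b, ∀ l ∈ two G a b, g (h * l) = g h * g l
  f_ne : ∀ h ∈ two G a b, f h ≠ 0
  g_ne : ∀ h ∈ two G a b, g h ≠ 0
  f_spec : ∀ h ∈ two G a b, ∀ i, h * D.xp i * h⁻¹ = D.xp (f h * i)
  g_spec : ∀ h ∈ two G a b, ∀ i j, ∃ t, h • D.pt y i j = D.pt y t (g h * j)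
  inj : ∀ h ∈ two G a b, f h = 1 → g h = 1 → h = 1

include D

theorem qn (h2 : IsMultiplyPretransitive G Ω 2) (hn : Nat.card Ω = p ^ 2 + 1) :
    ∀ g : G, g • a = a → g * D.x * g⁻¹ ∈ Subgroup.zpowers D.x :=
  (D.ker_dichotomy h2 hn).resolve_left fun h => D.false_of_ker_trans h2 hn h.1 h.2

theorem eq_pt (hn : Nat.card Ω = p ^ 2 + 1) {y : G} (hy : y ∈ D.P) (hyk : y ∉ S.ker a) {u : G}
    (hu : u ∈ D.P) : ∃ i j, u = D.xp i * y ^ (j : ZMod p).val := by
  obtain ⟨i, j, h⟩ := D.exists_pt hn hy hyk (D.smul_b_ne hu)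
  exact ⟨i, j, D.smul_b_injective hu (D.elt_mem hy i j) hn h⟩

theorem smul_conj {h : G} (hh : h ∈ two G a b) (u : G) : h • (u • b) = (h * u * h⁻¹) • b := by
  rw [mul_smul, mul_smul, inv_smul_eq_iff.2 (mem_two.1 hh).2.symm]

theorem nonempty_chars (h2 : IsMultiplyPretransitive G Ω 2) (hn : Nat.card Ω = p ^ 2 + 1) {y : G}
    (hy : y ∈ D.P) (hyk : y ∉ S.ker a) : Nonempty (Chars D y) := by
  classical
  have hQN := D.qn h2 hn
  have hf : ∀ h : two G a b, ∃ m, m ≠ 0 ∧ ∀ i, (h : G) * D.xp i = D.xp (m * i) * h :=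
    fun h => D.exists_mult hQN (mem_two.1 h.2).1
  choose f hf0 hf using hf
  have hg : ∀ h : two G a b, ∃ s n, (h : G) * y * (h : G)⁻¹ = D.xp s * y ^ (n : ZMod p).val :=
    fun h => D.eq_pt hn hy hyk (D.normal_P h2 hn (mem_two.1 h.2).1 hy)
  choose s g hg using hg
  let F : G → ZMod p := fun h => if hh : h ∈ two G a b then f ⟨h, hh⟩ else 0
  let Gf : G → ZMod p := fun h => if hh : h ∈ two G a b then g ⟨h, hh⟩ else 0
  have hF : ∀ h (hh : h ∈ two G a b), F h = f ⟨h, hh⟩ := fun h hh => dif_pos hh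
  have hG : ∀ h (hh : h ∈ two G a b), Gf h = g ⟨h, hh⟩ := fun h hh => dif_pos hh
  have hFs : ∀ h ∈ two G a b, ∀ i, h * D.xp i * h⁻¹ = D.xp (F h * i) := fun h hh i => by
    rw [hF h hh, mul_inv_eq_iff_eq_mul]
    exact hf ⟨h, hh⟩ i
  have hpow : ∀ h ∈ two G a b, ∀ j : ZMod p, ∃ t,
      h * y ^ j.val * h⁻¹ = D.xp t * y ^ (Gf h * j).val := by
    intro h hh j
    obtain ⟨r, hr⟩ := D.exists_pow_eq hn hy ((g ⟨h, hh⟩).val * j.val)
    rw [Nat.cast_mul, ZMod.natCast_zmod_val, ZMod.natCast_zmod_val] at hr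
    refine ⟨(j.val : ZMod p) * s ⟨h, hh⟩ + r, ?_⟩
    rw [hG h hh, ← conj_pow, hg ⟨h, hh⟩,
      (show Commute (D.xp _) (y ^ _) from D.comm (D.xp_mem _) (D.P.pow_mem hy _)).mul_pow,
      D.xp_pow, ← pow_mul, hr, D.xp_add, mul_assoc]
  refine ⟨Chars.mk F Gf ?_ ?_ ?_ ?_ hFs ?_ ?_⟩
  · intro h hh l hl
    have h1 := hFs (h * l) ((two G a b).mul_mem hh hl) 1
    have h3 : h * l * D.xp 1 * (h * l)⁻¹ = D.xp (F h * (F l * 1)) := by
      rw [← hFs h hh, ← hFs l hl]; group
    have := D.xp_injective (h1.symm.trans h3)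
    simpa using this
  · intro h hh l hl
    obtain ⟨t1, ht1⟩ := hpow (h * l) ((two G a b).mul_mem hh hl) 1
    obtain ⟨t2, ht2⟩ := hpow l hl 1
    obtain ⟨t3, ht3⟩ := hpow h hh (Gf l * 1)
    have h3 : h * l * y ^ (1 : ZMod p).val * (h * l)⁻¹ =
        D.xp (F h * t2 + t3) * y ^ (Gf h * (Gf l * 1)).val := by
      rw [D.xp_add, mul_assoc (D.xp (F h * t2)), ← ht3, ← hFs h hh,
        show h * l * y ^ (1 : ZMod p).val * (h * l)⁻¹ = h * (l * y ^ (1 : ZMod p).val * l⁻¹) * h⁻¹ by group, ht2]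
      group
    have := (D.pt_injective hn hy hyk (congrArg (· • b) (ht1.symm.trans h3))).2
    simpa using this
  · intro h hh
    rw [hF h hh]
    exact hf0 _
  · intro h hh he
    rw [hG h hh] at he
    refine hyk ?_
    have h1 : h * y * h⁻¹ ∈ S.ker a := by
      rw [hg ⟨h, hh⟩, he, ZMod.val_zero, pow_zero, mul_one]
      exact D.xp_ker _
    have h3 := S.conj_mem_ker' (mem_two.1 hh).1 h1
    simpa [mul_assoc] using h3
  · intro h hh i j
    obtain ⟨t, ht⟩ := hpow h hh j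
    refine ⟨F h * i + t, ?_⟩
    rw [pt, D.smul_conj hh, pt, D.xp_add, mul_assoc (D.xp (F h * i)), ← ht, ← hFs h hh]
    congr 1
    group
  · intro h hh h1 h3
    have hK : h ∈ S.ker a := by
      refine ⟨(mem_two.1 hh).1, fun c hc => ?_⟩
      obtain ⟨i, j, rfl⟩ := D.exists_pt hn hy hyk hc
      obtain ⟨t, ht⟩ := hpow h hh j
      have : h • D.pt y i j = D.pt y (F h * i + t) j := by
        rw [pt, D.smul_conj hh, pt, D.xp_add, mul_assoc (D.xp (F h * i))]
        have h4 : D.xp t * y ^ j.val = h * y ^ j.val * h⁻¹ := by rw [ht, h3, one_mul]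
        rw [h4, ← hFs h hh]
        congr 1
        group
      rw [this]
      exact (D.pt_mem_blk_iff hn hy hyk).2 rfl
    refine D.eq_one_of_commute h2 hn hK (mem_two.1 hh).2 ?_
    show h * D.x = D.x * h
    have := hFs h hh 1
    rw [h1, one_mul, D.xp_one, mul_inv_eq_iff_eq_mul] at this
    exact this

variable {y : G}

omit D in
theorem Chars.comm {D : Data S a b} (C : Chars D y) {h l : G} (hh : h ∈ two G a b)
    (hl : l ∈ two G a b) : h * l = l * h := by
  have hc : (l * h)⁻¹ * (h * l) ∈ two G a b :=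
    (two G a b).mul_mem ((two G a b).inv_mem ((two G a b).mul_mem hl hh)) ((two G a b).mul_mem hh hl)
  refine (inv_mul_eq_one.1 (C.inj _ hc ?_ ?_)).symm
  · have h1 := C.f_mul _ ((two G a b).mul_mem hl hh) _ hc
    rw [mul_inv_cancel_left, C.f_mul h hh l hl, C.f_mul l hl h hh, mul_comm (C.f h)] at h1
    exact (mul_eq_left₀ (mul_ne_zero (C.f_ne l hl) (C.f_ne h hh))).1 h1.symm
  · have h1 := C.g_mul _ ((two G a b).mul_mem hl hh) _ hc
    rw [mul_inv_cancel_left, C.g_mul h hh l hl, C.g_mul l hl h hh, mul_comm (C.g h)] at h1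
    exact (mul_eq_left₀ (mul_ne_zero (C.g_ne l hl) (C.g_ne h hh))).1 h1.symm

omit D in
theorem Chars.map_one {D : Data S a b} (C : Chars D y) : C.f 1 = 1 ∧ C.g 1 = 1 := by
  have h1 := C.f_mul 1 (one_mem _) 1 (one_mem _)
  have h3 := C.g_mul 1 (one_mem _) 1 (one_mem _)
  rw [mul_one] at h1 h3
  exact ⟨(mul_eq_left₀ (C.f_ne 1 (one_mem _))).1 h1.symm,
    (mul_eq_left₀ (C.g_ne 1 (one_mem _))).1 h3.symm⟩

/-- Fixed points when the blocks are moved. -/
theorem fix_of_g_ne (hn : Nat.card Ω = p ^ 2 + 1) (hy : y ∈ D.P) (hyk : y ∉ S.ker a)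
    (C : Chars D y) {h : G} (hh : h ∈ two G a b) (hg : C.g h ≠ 1) :
    (C.f h = 1 → {v | h • v = v} = insert a (S.blk a b)) ∧
      (C.f h ≠ 1 → {v : Ω | h • v = v} = {a, b}) := by
  obtain ⟨hha, hhb⟩ := mem_two.1 hh
  have hx : ∀ i, h • (D.xp i • b) = D.xp (C.f h * i) • b := fun i => by
    rw [D.smul_conj hh, C.f_spec h hh]
  have hfix : ∀ v, v ≠ a → h • v = v → ∃ i, v = D.xp i • b ∧ C.f h * i = i := by
    intro v hv he
    obtain ⟨i, j, rfl⟩ := D.exists_pt hn hy hyk hv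
    obtain ⟨t, ht⟩ := C.g_spec h hh i j
    have hj := (D.pt_injective hn hy hyk (ht.symm.trans he)).2
    obtain rfl : j = 0 := by
      by_contra hj0
      exact hg ((mul_eq_right₀ hj0).1 hj)
    refine ⟨i, by simp [pt], ?_⟩
    have h1 : D.pt y i 0 = D.xp i • b := by simp [pt]
    rw [h1, hx] at he
    exact D.xp_injective (D.smul_b_injective (D.xp_mem _) (D.xp_mem _) hn he)
  constructor
  · intro hf
    refine Set.Subset.antisymm (fun v hv => ?_) ?_
    · rcases eq_or_ne v a with rfl | hva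
      · exact Set.mem_insert _ _
      · obtain ⟨i, rfl, -⟩ := hfix v hva hv
        exact Set.mem_insert_of_mem _ ((D.xp_ker i).2 b D.ne.symm)
    · rintro v (rfl | hv)
      · exact hha
      · obtain ⟨i, rfl⟩ := D.blk_b hn hv
        show h • _ = _
        rw [hx, hf, one_mul]
  · intro hf
    refine Set.Subset.antisymm (fun v hv => ?_) ?_
    · rcases eq_or_ne v a with rfl | hva
      · exact Set.mem_insert _ _
      · obtain ⟨i, rfl, hi⟩ := hfix v hva hv
        obtain rfl : i = 0 := by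
          by_contra hi0
          exact hf ((mul_eq_right₀ hi0).1 hi)
        rw [D.xp_zero, one_smul]
        exact Or.inr rfl
    · rintro v (rfl | rfl)
      · exact hha
      · exact hhb

/-- Elements fixing every block lie in the kernel. -/
theorem ker_of_g_eq (hn : Nat.card Ω = p ^ 2 + 1) (hy : y ∈ D.P) (hyk : y ∉ S.ker a)
    (C : Chars D y) {h : G} (hh : h ∈ two G a b) (hg : C.g h = 1) : h ∈ S.ker a := by
  refine ⟨(mem_two.1 hh).1, fun c hc => ?_⟩
  obtain ⟨i, j, rfl⟩ := D.exists_pt hn hy hyk hc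
  obtain ⟨t, ht⟩ := C.g_spec h hh i j
  rw [ht, hg, one_mul]
  exact (D.pt_mem_blk_iff hn hy hyk).2 rfl

end Data

end CfsgLib.PSqOne
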