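import Mathlib.NumberTheory.NumberField.Cyclotomic.Basic
import Mathlib.RingTheory.Polynomial.Cyclotomic.Roots
import Mathlib.FieldTheory.KummerPolynomial
import Mathlib.Algebra.MonoidAlgebra.Basic
import Mathlib.Algebra.CharP.Algebra
import Mathlib.Algebra.CharP.Lemmas

/-!
Subsets of `ℤ/p` whose `p`-th convolution power is constant away from one point:
they are points or complements of points (or empty or everything).
-/

set_option autoImplicit false

namespace CfsgLib.PSqOne

open Polynomial

variable {p : ℕ} [hp : Fact p.Prime]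

/-- The indicator of `S` in the group algebra. -/
noncomputable def ind (S : Finset (ZMod p)) : AddMonoidAlgebra ℤ (ZMod p) :=
  ∑ j ∈ S, AddMonoidAlgebra.single j 1

/-- If the `p`-th power of the indicator is constant off `r`, then `r = 0`. -/
theorem shift_eq_zero (S : Finset (ZMod p)) (hne : S.Nonempty) (hnu : S ≠ Finset.univ)
    (hp2 : p ≠ 2) (r : ZMod p) (c : ℤ) (hc : ∀ j, j ≠ r → (ind S ^ p).coeff j = c) : r = 0 := by
  have : CharP (AddMonoidAlgebra (ZMod p) (ZMod p)) p :=
    charP_of_injective_algebraMap (algebraMap (ZMod p) (AddMonoidAlgebra (ZMod p) (ZMod p))).injective p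
  let φ := AddMonoidAlgebra.mapRingHom (ZMod p) (Int.castRingHom (ZMod p))
  have h1 : φ (ind S ^ p) = AddMonoidAlgebra.single 0 (S.card : ZMod p) := by
    rw [map_pow, ind, map_sum, sum_pow_char]
    rw [show ∀ n : ℕ, AddMonoidAlgebra.single (0 : ZMod p) (n : ZMod p) =
      ∑ _i ∈ Finset.range n, AddMonoidAlgebra.single (0 : ZMod p) (1 : ZMod p) from fun n => by
        rw [Finset.sum_const, Finset.card_range, AddMonoidAlgebra.smul_single, nsmul_one] ]
    rw [Finset.sum_const, Finset.card_range, ← Finset.sum_const]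
    refine Finset.sum_congr rfl fun j _ => ?_
    simp [φ, AddMonoidAlgebra.single_pow]
  have h2 : ∀ j, ((ind S ^ p).coeff j : ZMod p) = if j = 0 then (S.card : ZMod p) else 0 := by
    intro j
    have := congrArg (fun F => F.coeff j) h1
    simp only [φ, AddMonoidAlgebra.coeff_mapRingHom, AddMonoidAlgebra.coeff_single,
      Finsupp.single_apply] at this
    simpa [eq_comm] using this
  by_contra hr
  have hk : (S.card : ZMod p) ≠ 0 := by
    intro h
    rw [ZMod.natCast_eq_zero_iff] at h
    have h3 := Nat.le_of_dvd hne.card_pos h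
    have h4 : S.card < p := by
      have := Finset.card_lt_univ_of_notMem (s := S)
        (x := (Finset.exists_of_ssubset (Finset.ssubset_univ_iff.2 hnu)).choose)
        (Finset.exists_of_ssubset (Finset.ssubset_univ_iff.2 hnu)).choose_spec.2
      rwa [ZMod.card] at this
    omega
  have h3 := h2 0
  rw [if_pos rfl, hc 0 (Ne.symm hr)] at h3
  have h4 : ∃ j : ZMod p, j ≠ 0 ∧ j ≠ r := by
    by_contra h
    push Not at h
    have : p ≤ 2 := by
      have := Finset.card_le_card (s := (Finset.univ : Finset (ZMod p))) (t := {0, r})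
        (fun j _ => by by_cases hj : j = 0 <;> simp_all)
      rw [Finset.card_univ, ZMod.card] at this
      exact this.trans (Finset.card_le_two)
    have := hp.out.two_le
    omega
  obtain ⟨j, hj0, hjr⟩ := h4
  have h5 := h2 j
  rw [if_neg hj0, hc j hjr] at h5
  exact hk (h3.symm.trans h5)

/-- If the `p`-th power of the indicator is constant off `r`, then `S` or its complement
is a point. -/
theorem point_or_copoint (S : Finset (ZMod p)) (hne : S.Nonempty) (hnu : S ≠ Finset.univ)
    (r : ZMod p) (c : ℤ) (hc : ∀ j, j ≠ r → (ind S ^ p).coeff j = c) :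
    ∃ t, S = {t} ∨ S = Finset.univ.erase t := by
  classical
  rcases eq_or_ne p 2 with rfl | hp2
  · obtain ⟨s, hs⟩ := hne
    refine ⟨s, Or.inl (Finset.eq_singleton_iff_unique_mem.2 ⟨hs, fun t ht => ?_⟩)⟩
    by_contra hts
    refine hnu (Finset.eq_univ_iff_forall.2 fun u => ?_)
    have : ∀ s t u : ZMod 2, t ≠ s → u = s ∨ u = t := by decide
    rcases this s t u hts with rfl | rfl <;> assumption
  obtain rfl := shift_eq_zero S hne hnu hp2 r c hc
  let L := CyclotomicField p ℚ
  have : IsCyclotomicExtension {p} ℚ L := CyclotomicField.isCyclotomicExtension p ℚ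
  let ζ : L := IsCyclotomicExtension.zeta p ℚ L
  have hζ : IsPrimitiveRoot ζ p := IsCyclotomicExtension.zeta_spec p ℚ L
  have hcyc := cyclotomic.irreducible_rat (n := p) hp.out.pos
  have hrank : Module.finrank ℚ L = p - 1 := by
    rw [IsCyclotomicExtension.finrank L hcyc, Nat.totient_prime hp.out]
  have hmul : ∀ i j : ZMod p, ζ ^ (i + j).val = ζ ^ i.val * ζ ^ j.val := by
    intro i j
    rw [← pow_add, ZMod.val_add]
    exact (pow_eq_pow_mod _ hζ.pow_eq_one).symm
  let e : Multiplicative (ZMod p) →* L :=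
    { toFun := fun j => ζ ^ (Multiplicative.toAdd j).val
      map_one' := by simp
      map_mul' := fun i j => hmul _ _ }
  let ev := AddMonoidAlgebra.lift ℤ L (ZMod p) e
  have hev : ∀ F : AddMonoidAlgebra ℤ (ZMod p), ev F = ∑ j, (F.coeff j : L) * ζ ^ j.val := by
    intro F
    show AddMonoidAlgebra.lift ℤ L (ZMod p) e F = _
    rw [AddMonoidAlgebra.lift_apply, Finsupp.sum_fintype]
    · exact Finset.sum_congr rfl fun j _ => by simp [e]
    · simp
  have hsum : ∑ j : ZMod p, ζ ^ j.val = 0 := by
    rw [← hζ.geom_sum_eq_zero hp.out.one_lt]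
    refine Finset.sum_bij (fun j _ => j.val) (fun j _ => Finset.mem_range.2 (ZMod.val_lt j))
      (fun i _ j _ h => ZMod.val_injective p h)
      (fun n hn => ⟨(n : ZMod p), Finset.mem_univ _, ZMod.val_natCast_of_lt (Finset.mem_range.1 hn)⟩)
      (fun j _ => rfl)
  -- rational relations between the powers of `ζ` are constant
  have hrel : ∀ f : ZMod p → ℚ, ∑ j, algebraMap ℚ L (f j) * ζ ^ j.val = 0 → ∀ i j, f i = f j := by
    intro f hf
    let F : ℚ[X] := ∑ j : ZMod p, C (f j) * X ^ j.val
    have hF : aeval ζ F = 0 := by simpa [F] using hf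
    have hdvd : cyclotomic p ℚ ∣ F := by
      rw [cyclotomic_eq_minpoly_rat hζ hp.out.pos]
      exact minpoly.dvd _ _ hF
    obtain ⟨q, hq⟩ := hdvd
    have hcoef : ∀ j : ZMod p, F.coeff j.val = f j := by
      intro j
      simp only [F, finsetSum_coeff, coeff_C_mul_X_pow]
      rw [Finset.sum_eq_single j]
      · simp
      · intro b _ hb
        rw [if_neg fun h => hb (ZMod.val_injective p h).symm]
      · simp
    by_cases hq0 : q = 0
    · intro i j
      rw [← hcoef i, ← hcoef j, hq, hq0, mul_zero, coeff_zero, coeff_zero]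
    have hdeg : q.natDegree = 0 := by
      have h1 : F.natDegree ≤ p - 1 := by
        refine natDegree_sum_le_of_forall_le _ _ fun j _ => ?_
        refine (natDegree_C_mul_X_pow_le _ _).trans ?_
        have := ZMod.val_lt j
        omega
      rw [hq, natDegree_mul (cyclotomic_ne_zero p ℚ) hq0, natDegree_cyclotomic,
        Nat.totient_prime hp.out] at h1
      omega
    obtain ⟨u, rfl⟩ := natDegree_eq_zero.1 hdeg
    intro i j
    rw [← hcoef i, ← hcoef j, hq, cyclotomic_prime]
    simp [finsetSum_coeff, coeff_X_pow, Finset.mem_range, ZMod.val_lt]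
  -- the value at `ζ`
  set f : L := ev (ind S) with hfdef
  have hfS : f = ∑ j, algebraMap ℚ L (if j ∈ S then 1 else 0) * ζ ^ j.val := by
    rw [hfdef, hev]
    refine Finset.sum_congr rfl fun j _ => ?_
    congr 1
    have : (ind S).coeff j = if j ∈ S then 1 else 0 := by
      rw [ind, AddMonoidAlgebra.coeff_sum]
      simp [Finsupp.finsetSum_apply, Finsupp.single_apply]
    rw [this]
    split_ifs <;> simp
  set A : ℤ := (ind S ^ p).coeff 0 - c with hA
  have hfp : f ^ p = algebraMap ℚ L (A : ℚ) := by
    rw [hfdef, ← map_pow, hev]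
    have : ∀ j : ZMod p, ((ind S ^ p).coeff j : L) * ζ ^ j.val =
        (c : L) * ζ ^ j.val + (if j = 0 then (A : L) else 0) := by
      intro j
      rcases eq_or_ne j 0 with rfl | hj
      · simp [hA]
      · simp [hc j hj, hj]
    rw [Finset.sum_congr rfl fun j _ => this j, Finset.sum_add_distrib, ← Finset.mul_sum, hsum,
      mul_zero, zero_add, Finset.sum_ite_eq' Finset.univ (0 : ZMod p), if_pos (Finset.mem_univ _)]
    simp
  -- the integer is a `p`-th power
  have hpow : ∃ a : ℚ, a ^ p = (A : ℚ) := by
    by_contra h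
    push Not at h
    have hirr : Irreducible (X ^ p - C (A : ℚ)) := X_pow_sub_C_irreducible_of_prime hp.out h
    have h1 : minpoly ℚ f = X ^ p - C (A : ℚ) :=
      (minpoly.eq_of_irreducible_of_monic hirr (by simp [hfp])
        (monic_X_pow_sub_C _ hp.out.ne_zero)).symm
    have h2 : (minpoly ℚ f).natDegree ≤ p - 1 := hrank ▸ minpoly.natDegree_le f
    rw [h1, natDegree_X_pow_sub_C] at h2
    have := hp.out.pos
    omega
  obtain ⟨a, ha⟩ := hpow
  have hfa : f ^ p = (algebraMap ℚ L a) ^ p := hfp.trans (by rw [← map_pow, ha]; rfl)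
  -- it is a rational multiple of a root of unity
  obtain ⟨t, ht⟩ : ∃ t : ZMod p, f = algebraMap ℚ L a * ζ ^ t.val := by
    by_cases h0 : algebraMap ℚ L a = 0
    · refine ⟨0, ?_⟩
      rw [h0, zero_pow hp.out.ne_zero] at hfa
      simp [h0, pow_eq_zero_iff hp.out.ne_zero |>.1 hfa]
    · have : (f / algebraMap ℚ L a) ^ p = 1 := by rw [div_pow, hfa, div_self (pow_ne_zero _ h0)]
      obtain ⟨i, hi, hie⟩ := hζ.eq_pow_of_pow_eq_one this
      refine ⟨(i : ZMod p), ?_⟩
      rw [ZMod.val_natCast_of_lt hi, hie]
      exact (mul_div_cancel₀ f h0).symm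
  have hfin : ∀ i j, i ≠ t → j ≠ t → (i ∈ S ↔ j ∈ S) := by
    intro i j hi hj
    have := hrel (fun j => (if j ∈ S then 1 else 0) - (if j = t then a else 0)) (by
      simp only [map_sub, sub_mul, Finset.sum_sub_distrib, ← hfS, ht]
      rw [Finset.sum_eq_single t] <;> simp +contextual) i j
    simp only [hi, hj, if_false, sub_zero] at this
    by_cases h1 : i ∈ S <;> by_cases h2 : j ∈ S <;> simp_all
  refine ⟨t, ?_⟩
  by_cases hall : ∃ i, i ≠ t ∧ i ∈ S
  · obtain ⟨i, hit, hiS⟩ := hall
    right
    ext j
    simp only [Finset.mem_erase, Finset.mem_univ, and_true]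
    constructor
    · rintro hj rfl
      exact hnu (Finset.eq_univ_iff_forall.2 fun k => by
        rcases eq_or_ne k j with rfl | hk
        · exact hj
        · exact (hfin i k hit hk).1 hiS)
    · exact fun hj => (hfin i j hit hj).1 hiS
  · left
    push Not at hall
    exact Finset.eq_singleton_iff_nonempty_unique_mem.2
      ⟨hne, fun j hj => by_contra fun h => hall j h hj⟩

end CfsgLib.PSqOne
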