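import Cfsg.Agent.Lib.PSqOne.Chars
import Mathlib.GroupTheory.Perm.Cycle.Type
import Mathlib.Combinatorics.Enumerative.DoubleCounting

/-!
Counting involutions: no block system exists except in degree five with group order twenty.
-/

set_option autoImplicit false
set_option linter.unusedSectionVars false

namespace CfsgLib.PSqOne

open MulAction Finset

variable {G Ω : Type*} [Group G] [MulAction G Ω] {p : ℕ}
variable [Finite G] [Finite Ω] [hp : Fact p.Prime] [FaithfulSMul G Ω]

/-- If no involution has a fixed point, the group has a transitive subgroup of index two; so a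
doubly transitive group of degree `2 (mod 4)` with odd two-point stabilisers does not exist. -/
theorem two_even (h2 : IsMultiplyPretransitive G Ω 2) (hn : Nat.card Ω = p ^ 2 + 1) (hp2 : p ≠ 2)
    {a b : Ω} (hab : a ≠ b) : 2 ∣ Nat.card (two G a b) := by
  classical
  by_contra hodd
  have hpodd : p % 2 = 1 := hp.out.mod_two_eq_one_iff_ne_two.2 hp2
  have hG : Nat.card G = (p ^ 2 + 1) * (Nat.card (two G a b) * p ^ 2) := by
    have : IsPretransitive G Ω := MulAction.isPretransitive_of_is_two_pretransitive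
    rw [← card_stabilizer h2 hn hab, ← Subgroup.card_mul_index (stabilizer G a),
      index_stabilizer_of_transitive, hn, mul_comm]
  have hHa : ¬ 2 ∣ Nat.card (two G a b) * p ^ 2 := fun h =>
    (Nat.prime_two.dvd_mul.1 h).elim hodd fun h => by
      have := Nat.prime_two.dvd_of_dvd_pow h
      omega
  obtain ⟨w, hw⟩ := exists_prime_orderOf_dvd_card' (G := G) 2 (hG ▸ Dvd.dvd.mul_right (by
    obtain ⟨k, hk⟩ : ∃ k, p = 2 * k + 1 := ⟨p / 2, by omega⟩
    exact ⟨2 * k * k + 2 * k + 1, by rw [hk]; ring⟩) _)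
  have hwfree : ∀ c : Ω, w • c ≠ c := by
    intro c hc
    obtain ⟨d, hd⟩ : ∃ d, d ≠ c := by
      rcases eq_or_ne a c with h | h
      · exact ⟨b, h ▸ hab.symm⟩
      · exact ⟨a, h⟩
    have h1 : orderOf w ∣ Nat.card (stabilizer G c) := by
      rw [← Subgroup.orderOf_mk w (show w ∈ stabilizer G c from hc)]
      exact orderOf_dvd_natCard _
    rw [hw, card_stabilizer h2 hn (Ne.symm hd)] at h1
    -- two-point stabilisers are conjugate
    obtain ⟨u, hu1, hu2⟩ := is_two_pretransitive_iff.1 h2 hab (Ne.symm hd)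
    have : Nat.card (two G c d) = Nat.card (two G a b) :=
      Nat.card_congr
        { toFun := fun h => ⟨u⁻¹ * h.1 * u, mem_two.2
            ⟨by rw [mul_smul, mul_smul, hu1, (mem_two.1 h.2).1, ← hu1, inv_smul_smul],
              by rw [mul_smul, mul_smul, hu2, (mem_two.1 h.2).2, ← hu2, inv_smul_smul]⟩⟩
          invFun := fun h => ⟨u * h.1 * u⁻¹, mem_two.2
            ⟨by rw [← hu1, mul_smul, mul_smul, inv_smul_smul, (mem_two.1 h.2).1],
              by rw [← hu2, mul_smul, mul_smul, inv_smul_smul, (mem_two.1 h.2).2]⟩⟩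
          left_inv := fun h => Subtype.ext (by simp [mul_assoc])
          right_inv := fun h => Subtype.ext (by simp [mul_assoc]) }
    rw [this] at h1
    exact hHa h1
  have : Fintype Ω := Fintype.ofFinite Ω
  let s : G →* ℤˣ := Equiv.Perm.sign.comp (toPermHom G Ω)
  have hsw : s w = -1 := by
    have hσ : orderOf (toPermHom G Ω w) = 2 := by
      rw [orderOf_injective (toPermHom G Ω) MulAction.toPerm_injective, hw]
    have : Fact (Nat.Prime 2) := ⟨Nat.prime_two⟩
    obtain ⟨n, hnc⟩ := Equiv.Perm.cycleType_prime_order (σ := toPermHom G Ω w) (by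
      rw [hσ]; exact Nat.prime_two)
    have hsum := Equiv.Perm.sum_cycleType (toPermHom G Ω w)
    have hsupp : (toPermHom G Ω w).support = Finset.univ :=
      Finset.eq_univ_iff_forall.2 fun c => Equiv.Perm.mem_support.2 (hwfree c)
    rw [hnc, hσ, Multiset.sum_replicate, hsupp, Finset.card_univ, ← Nat.card_eq_fintype_card, hn,
      smul_eq_mul] at hsum
    show Equiv.Perm.sign (toPermHom G Ω w) = -1
    rw [Equiv.Perm.sign_of_cycleType, hnc, hσ]
    simp only [Multiset.sum_replicate, Multiset.card_replicate, smul_eq_mul]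
    refine Odd.neg_one_pow ?_
    rw [Nat.odd_iff]
    obtain ⟨k, hk⟩ : ∃ k, p = 2 * k + 1 := ⟨p / 2, by omega⟩
    have : p ^ 2 + 1 = 4 * (k * k + k) + 2 := by rw [hk]; ring
    omega
  have hidx : s.ker.index = 2 := by
    rw [Subgroup.index_ker, MonoidHom.range_eq_top.2 ?_, Subgroup.card_top,
      Nat.card_eq_fintype_card]
    · rfl
    · intro x
      rcases Int.units_eq_one_or x with rfl | rfl
      · exact ⟨1, map_one s⟩
      · exact ⟨w, hsw⟩
  have hN := Subgroup.card_mul_index s.ker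
  rw [hidx, hG] at hN
  -- the kernel is transitive
  obtain ⟨g, hg, c, hgc⟩ : ∃ g ∈ s.ker, ∃ c : Ω, g • c ≠ c := by
    by_contra h
    push Not at h
    have h1 : s.ker = ⊥ := (Subgroup.eq_bot_iff_forall _).2 fun g hg =>
      FaithfulSMul.eq_of_smul_eq_smul (α := Ω) fun c => by rw [one_smul, h g hg c]
    rw [h1, Subgroup.card_bot] at hN
    have h3 : 1 ≤ Nat.card (two G a b) * p ^ 2 := Nat.mul_pos Nat.card_pos (pow_pos hp.out.pos 2)
    have h4 := hp.out.two_le
    nlinarith
  have hcov : ((fun g => g • a) '' (s.ker : Set G)) = Set.univ := by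
    refine Set.eq_univ_of_forall fun d => ?_
    rcases eq_or_ne a d with rfl | hd
    · exact ⟨1, s.ker.one_mem, one_smul _ _⟩
    obtain ⟨u, hu1, hu2⟩ := is_two_pretransitive_iff.1 h2 (Ne.symm hgc) hd
    refine ⟨u * g * u⁻¹, s.normal_ker.conj_mem g hg u, ?_⟩
    show (u * g * u⁻¹) • a = d
    rw [mul_smul, mul_smul, ← hu1, inv_smul_smul, hu2]
  have h3 := card_eq_mul_orbit s.ker a
  rw [hcov, Set.ncard_univ, hn] at h3
  rw [h3, mul_comm _ (p ^ 2 + 1), mul_assoc] at hN
  have h4 := Nat.eq_of_mul_eq_mul_left (Nat.succ_pos _) hN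
  exact hHa (h4 ▸ Dvd.intro_left _ rfl)

/-- Involutions exchanging two given points. -/
def swaps (G : Type*) {Ω : Type*} [Group G] [MulAction G Ω] (a b : Ω) : Set G :=
  {g | g • a = b ∧ g • b = a ∧ g * g = 1}

theorem card_swaps_le (S : Sys G Ω p) (h2 : IsMultiplyPretransitive G Ω 2)
    (hn : Nat.card Ω = p ^ 2 + 1) {a b : Ω} (hab : a ≠ b) : (swaps G a b).ncard ≤ p - 1 := by
  classical
  obtain ⟨D⟩ := nonempty_data S h2 hn hab
  obtain ⟨y, hy, hyk⟩ := D.exists_y hn
  obtain ⟨C⟩ := D.nonempty_chars h2 hn hy hyk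
  rcases Set.eq_empty_or_nonempty (swaps G a b) with h | ⟨t, hta, htb, htt⟩
  · rw [h, Set.ncard_empty]; exact Nat.zero_le _
  have hmem : ∀ g ∈ swaps G a b, t * g ∈ two G a b ∧ t * (t * g) * t * (t * g) = 1 := by
    rintro g ⟨hga, hgb, hgg⟩
    refine ⟨mem_two.2 ⟨by rw [mul_smul, hga, htb], by rw [mul_smul, hgb, hta]⟩, ?_⟩
    rw [← mul_assoc t t g, htt, one_mul, mul_assoc g t, ← mul_assoc t t g, htt, one_mul, hgg]
  have htinv : t⁻¹ = t := inv_eq_of_mul_eq_one_right htt
  have h1 : (swaps G a b).InjOn fun g => C.f (t * g) := by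
    intro g hg g' hg' he
    have he' : C.f (t * g) = C.f (t * g') := he
    obtain ⟨hh, hA⟩ := hmem g hg
    obtain ⟨hh', hA'⟩ := hmem g' hg'
    obtain ⟨h, hdef⟩ : ∃ h, t * g = h := ⟨_, rfl⟩
    obtain ⟨h', hdef'⟩ : ∃ h', t * g' = h' := ⟨_, rfl⟩
    rw [hdef] at hh hA he'
    rw [hdef'] at hh' hA' he'
    have hhe : h⁻¹ * h' ∈ two G a b := (two G a b).mul_mem ((two G a b).inv_mem hh) hh'
    have hf1 : C.f (h⁻¹ * h') = 1 := by
      have := C.f_mul h hh _ hhe
      rw [mul_inv_cancel_left, ← he'] at this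
      exact (mul_eq_left₀ (C.f_ne h hh)).1 this.symm
    by_contra hne
    have hne1 : h⁻¹ * h' ≠ 1 := fun e => hne (mul_left_cancel
      ((hdef.trans (inv_mul_eq_one.1 e)).trans hdef'.symm))
    have hg1 : C.g (h⁻¹ * h') ≠ 1 := fun e => hne1 (C.inj _ hhe hf1 e)
    have hfix := (D.fix_of_g_ne hn hy hyk C hhe hg1).1 hf1
    -- conjugation by `t` inverts the element
    have hinv : t * (h⁻¹ * h') * t = (h⁻¹ * h')⁻¹ := by
      have e1 : t * h * t = h⁻¹ := eq_inv_of_mul_eq_one_left hA
      have e2 : t * h' * t = h'⁻¹ := eq_inv_of_mul_eq_one_left hA'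
      have e1' : t * h⁻¹ * t = h := by
        conv_rhs => rw [← inv_inv h, ← e1]
        rw [_root_.mul_inv_rev, _root_.mul_inv_rev, htinv, mul_assoc]
      calc t * (h⁻¹ * h') * t = (t * h⁻¹ * t) * (t * h' * t) := by
            rw [show t * h⁻¹ * t * (t * h' * t) = t * h⁻¹ * (t * t) * h' * t by group, htt]; group
        _ = h * h'⁻¹ := by rw [e1', e2]
        _ = (h⁻¹ * h')⁻¹ := by
            rw [_root_.mul_inv_rev, inv_inv]
            exact C.comm hh ((two G a b).inv_mem hh')
    refine S.false_of_symm hp.out hn (S.symm_all h2 hab ?_)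
    set e := h⁻¹ * h'
    have h3 : insert b (S.blk b a) = (fun v => t • v) '' insert a (S.blk a b) := by
      rw [Set.image_insert_eq, S.smul_blk, hta, htb]
    rw [h3, ← hfix]
    have hte : ∀ v : Ω, e • v = v → e • (t • v) = t • v := by
      intro v hv
      have h4 : (t * e * t) • (t • v) = (t * e) • v := by
        rw [← mul_smul, show t * e * t * t = t * e * (t * t) by group, htt, mul_one]
      rw [hinv, mul_smul, hv, inv_smul_eq_iff] at h4
      exact h4.symm
    ext v
    constructor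
    · intro hv
      exact ⟨t • v, hte v hv, by show t • t • v = v; rw [← mul_smul, htt, one_smul]⟩
    · rintro ⟨u, hu, rfl⟩
      exact hte u hu
  rw [← Set.InjOn.ncard_image h1]
  refine (Set.ncard_le_ncard (t := {(0 : ZMod p)}ᶜ) ?_).trans ?_
  · rintro _ ⟨g, hg, rfl⟩
    exact C.f_ne _ (hmem g hg).1
  · rw [Set.ncard_compl, Set.ncard_singleton, Nat.card_zmod]

theorem exists_involution (S : Sys G Ω p) (h2 : IsMultiplyPretransitive G Ω 2)
    (hn : Nat.card Ω = p ^ 2 + 1) (hp2 : p ≠ 2) {a b : Ω} (hab : a ≠ b) :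
    ∃ z : G, z * z = 1 ∧ {v : Ω | z • v = v} = {a, b} := by
  classical
  obtain ⟨D⟩ := nonempty_data S h2 hn hab
  obtain ⟨y, hy, hyk⟩ := D.exists_y hn
  obtain ⟨C⟩ := D.nonempty_chars h2 hn hy hyk
  have : Fact (Nat.Prime 2) := ⟨Nat.prime_two⟩
  obtain ⟨u0, hu0⟩ := exists_prime_orderOf_dvd_card' (G := two G a b) 2 (two_even h2 hn hp2 hab)
  obtain ⟨u, hu, huu, hu1⟩ : ∃ u ∈ two G a b, u * u = 1 ∧ u ≠ 1 := by
    refine ⟨u0, u0.2, ?_, fun h => ?_⟩
    · have := pow_orderOf_eq_one u0
      rw [hu0, pow_two] at this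
      exact congrArg Subtype.val this
    · rw [orderOf_eq_one_iff.2 (Subtype.ext h)] at hu0
      omega
  have hpm : ∀ v ∈ two G a b, v * v = 1 →
      (C.f v = 1 ∨ C.f v = -1) ∧ (C.g v = 1 ∨ C.g v = -1) := by
    intro v hv hvv
    have h1 := C.f_mul v hv v hv
    have h3 := C.g_mul v hv v hv
    rw [hvv, C.map_one.1] at h1
    rw [hvv, C.map_one.2] at h3
    exact ⟨mul_self_eq_one_iff.1 h1.symm, mul_self_eq_one_iff.1 h3.symm⟩
  have : Fact (2 < p) := ⟨lt_of_le_of_ne hp.out.two_le (Ne.symm hp2)⟩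
  have hne1 : (-1 : ZMod p) ≠ 1 := ZMod.neg_one_ne_one
  have hdone : ∀ v ∈ two G a b, v * v = 1 → C.f v ≠ 1 → C.g v ≠ 1 →
      ∃ z : G, z * z = 1 ∧ {w : Ω | z • w = w} = {a, b} := fun v hv hvv hf hg =>
    ⟨v, hvv, (D.fix_of_g_ne hn hy hyk C hv hg).2 hf⟩
  by_cases hgood : C.f u ≠ 1 ∧ C.g u ≠ 1
  · exact hdone u hu huu hgood.1 hgood.2
  obtain ⟨t, hta, htb⟩ := is_two_pretransitive_iff.1 h2 hab hab.symm
  set u' := t * u * t⁻¹ with hu'
  obtain ⟨hua, hub⟩ := mem_two.1 hu
  have hu'2 : u' ∈ two G a b := mem_two.2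
    ⟨by rw [mul_smul, mul_smul, inv_smul_eq_iff.2 htb.symm, hub, htb],
      by rw [mul_smul, mul_smul, inv_smul_eq_iff.2 hta.symm, hua, hta]⟩
  have hu'u : u' * u' = 1 := by
    rw [hu', show t * u * t⁻¹ * (t * u * t⁻¹) = t * (u * u) * t⁻¹ by group, huu]; group
  have hu'1 : u' ≠ 1 := fun h => hu1 (by simpa [hu', mul_inv_eq_one] using h)
  -- the conjugate differs, since otherwise the lines would be symmetric
  have hneq : u' ≠ u := by
    intro he
    have hset : ∀ L : Set Ω, L = {v | u • v = v} → L = (fun v => t • v) '' L := by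
      rintro L rfl
      ext v
      constructor
      · intro hv
        have hv' : u • v = v := hv
        refine ⟨t⁻¹ • v, ?_, smul_inv_smul t v⟩
        show u • t⁻¹ • v = t⁻¹ • v
        have : (t * u * t⁻¹) • v = v := by rw [← hu', he]; exact hv'
        rw [mul_smul, mul_smul, ← eq_inv_smul_iff] at this
        exact this
      · rintro ⟨w, hw, rfl⟩
        show u • t • w = t • w
        have hw' : u • w = w := hw
        conv_lhs => rw [← he, hu', mul_smul, mul_smul, inv_smul_smul, hw']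
    by_cases hg : C.g u = 1
    · have hK := D.ker_of_g_eq hn hy hyk C hu hg
      have hQN := D.qn h2 hn
      have hfF : ∀ c d : Ω, c ≠ d → HF S c d := fun c d hcd =>
        (D.hf_of_ne h2 hn hQN hK hub hu1).transport h2 hab hcd
      have hfix : insert a ((col S h2 hn hfF).blk a b) = {v | u • v = v} := by
        refine Set.Subset.antisymm ?_ fun v hv => ?_
        · rintro v (rfl | hv)
          · exact hua
          · exact hv.2 u hK hub
        · rcases eq_or_ne v a with rfl | hva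
          · exact Set.mem_insert _ _
          obtain ⟨d, ⟨hd, hdfix⟩, -⟩ := hfF a b hab v hva
          refine Set.mem_insert_of_mem _ ⟨hva, fun k hk hkb => ?_⟩
          obtain ⟨w, -, hw⟩ := D.exists_unique_fixed h2 hn hQN hK hub hu1 hva
          have : v = d := (hw v ⟨S.self hva.symm, hv⟩).trans (hw d ⟨hd, hdfix u hK hub⟩).symm
          rw [this]
          exact hdfix k hk hkb
      have h3 := hset _ hfix
      rw [Set.image_insert_eq, Sys.smul_blk, hta, htb] at h3
      exact (col S h2 hn hfF).false_of_symm hp.out hn ((col S h2 hn hfF).symm_all h2 hab h3)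
    · have hf : C.f u = 1 := not_not.1 fun h => hgood ⟨h, hg⟩
      have h3 := hset _ ((D.fix_of_g_ne hn hy hyk C hu hg).1 hf).symm
      rw [Set.image_insert_eq, Sys.smul_blk, hta, htb] at h3
      exact S.false_of_symm hp.out hn (S.symm_all h2 hab h3)
  by_cases hgood' : C.f u' ≠ 1 ∧ C.g u' ≠ 1
  · exact hdone u' hu'2 hu'u hgood'.1 hgood'.2
  have hprod : u * u' ∈ two G a b := (two G a b).mul_mem hu hu'2
  have huniq : ∀ v ∈ two G a b, ∀ w ∈ two G a b, v * v = 1 → C.f v = C.f w → C.g v = C.g w →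
      w = v := by
    intro v hv w hw hvv hf hg
    have h1 := C.inj (v * w) ((two G a b).mul_mem hv hw)
      (by rw [C.f_mul v hv w hw, ← hf, ← C.f_mul v hv v hv, hvv, C.map_one.1])
      (by rw [C.g_mul v hv w hw, ← hg, ← C.g_mul v hv v hv, hvv, C.map_one.2])
    exact (mul_left_cancel (hvv.trans h1.symm)).symm
  obtain ⟨hf1, hg1⟩ := hpm u hu huu
  obtain ⟨hf1', hg1'⟩ := hpm u' hu'2 hu'u
  have hne0 : ∀ v ∈ two G a b, v ≠ 1 → ¬ (C.f v = 1 ∧ C.g v = 1) := fun v hv h1 h =>
    h1 (C.inj v hv h.1 h.2)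
  refine hdone (u * u') hprod ?_ ?_ ?_
  · rw [show u * u' * (u * u') = u * (u' * u) * u' by group, C.comm hu'2 hu,
      show u * (u * u') * u' = u * u * (u' * u') by group, huu, hu'u, one_mul]
  all_goals
    first | rw [C.f_mul u hu u' hu'2] | rw [C.g_mul u hu u' hu'2]
    intro hone
    have hu0' := hne0 u hu hu1
    have hu0'' := hne0 u' hu'2 hu'1
    rcases hf1 with a1 | a1 <;> rcases hg1 with a2 | a2 <;>
      rcases hf1' with a3 | a3 <;> rcases hg1' with a4 | a4 <;>
      first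
        | exact hneq (huniq u hu u' hu'2 huu (a1.trans a3.symm) (a2.trans a4.symm))
        | exact hu0' ⟨a1, a2⟩
        | exact hu0'' ⟨a3, a4⟩
        | exact hgood ⟨a1 ▸ hne1, a2 ▸ hne1⟩
        | exact hgood' ⟨a3 ▸ hne1, a4 ▸ hne1⟩
        | (simp [a1, a2, a3, a4] at hone; exact hne1 hone)

/-- No block systems for odd `p`. -/
theorem false_of_sys (S : Sys G Ω p) (h2 : IsMultiplyPretransitive G Ω 2)
    (hn : Nat.card Ω = p ^ 2 + 1) (hp2 : p ≠ 2) : False := by
  classical
  have : Fintype Ω := Fintype.ofFinite Ω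
  have : Fintype G := Fintype.ofFinite G
  let Z : Finset G := Finset.univ.filter fun z =>
    z * z = 1 ∧ ∃ a b : Ω, a ≠ b ∧ {v : Ω | z • v = v} = {a, b}
  let P : Finset (Ω × Ω) := Finset.univ.offDiag
  have hcardZ : ∀ z ∈ Z, ({v | z • v = v} : Finset Ω).card = 2 := by
    intro z hz
    obtain ⟨-, a, b, hab, h⟩ := (Finset.mem_filter.1 hz).2
    rw [show ({v | z • v = v} : Finset Ω) = {a, b} from ?_, Finset.card_pair hab]
    ext v
    simpa using Set.ext_iff.1 h v
  -- each ordered pair is fixed by one of these involutions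
  have hlow : P.card ≤ 2 * Z.card := by
    calc P.card = ∑ _q ∈ P, 1 := (Finset.card_eq_sum_ones P)
      _ ≤ ∑ q ∈ P, (Z.filter fun z => z • q.1 = q.1 ∧ z • q.2 = q.2).card := by
        refine Finset.sum_le_sum fun q hq => Finset.card_pos.2 ?_
        obtain ⟨z, hzz, hz⟩ := exists_involution S h2 hn hp2 (Finset.mem_offDiag.1 hq).2.2
        refine ⟨z, Finset.mem_filter.2 ⟨Finset.mem_filter.2 ⟨Finset.mem_univ z, hzz, q.1, q.2,
          (Finset.mem_offDiag.1 hq).2.2, hz⟩, ?_, ?_⟩⟩
        · exact (Set.ext_iff.1 hz q.1).2 (Or.inl rfl)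
        · exact (Set.ext_iff.1 hz q.2).2 (Or.inr rfl)
      _ = ∑ z ∈ Z, (P.filter fun q => z • q.1 = q.1 ∧ z • q.2 = q.2).card :=
        Finset.sum_card_bipartiteAbove_eq_sum_card_bipartiteBelow _
      _ = ∑ _z ∈ Z, 2 := by
        refine Finset.sum_congr rfl fun z hz => ?_
        rw [show (P.filter fun q => z • q.1 = q.1 ∧ z • q.2 = q.2) =
          ({v | z • v = v} : Finset Ω).offDiag from ?_, Finset.offDiag_card, hcardZ z hz]
        ext q
        simp only [P, Finset.mem_filter, Finset.mem_offDiag, Finset.mem_univ, true_and]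
        tauto
      _ = 2 * Z.card := by rw [Finset.sum_const, smul_eq_mul, mul_comm]
  have hup : (Nat.card Ω - 2) * Z.card ≤ P.card * (p - 1) := by
    calc (Nat.card Ω - 2) * Z.card = ∑ _z ∈ Z, (Nat.card Ω - 2) := by
          rw [Finset.sum_const, smul_eq_mul, mul_comm]
      _ ≤ ∑ z ∈ Z, (P.filter fun q => z • q.1 = q.2).card := by
        refine Finset.sum_le_sum fun z hz => ?_
        rw [Nat.card_eq_fintype_card, ← hcardZ z hz, ← Finset.card_compl]
        refine Finset.card_le_card_of_injOn (fun v => (v, z • v)) (fun v hv => ?_)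
          (fun v _ w _ h => congrArg Prod.fst h)
        have hv' : ¬ z • v = v := by simpa using hv
        exact Finset.mem_filter.2 ⟨Finset.mem_offDiag.2 ⟨Finset.mem_univ _, Finset.mem_univ _,
          Ne.symm hv'⟩, rfl⟩
      _ = ∑ q ∈ P, (Z.filter fun z => z • q.1 = q.2).card :=
        Finset.sum_card_bipartiteAbove_eq_sum_card_bipartiteBelow _
      _ ≤ ∑ _q ∈ P, (p - 1) := by
        refine Finset.sum_le_sum fun q hq => le_trans ?_
          (card_swaps_le S h2 hn (Finset.mem_offDiag.1 hq).2.2)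
        rw [← Set.ncard_coe_finset]
        refine Set.ncard_le_ncard fun z hz => ?_
        obtain ⟨hzZ, he⟩ := Finset.mem_filter.1 (Finset.mem_coe.1 hz)
        have hzz : z * z = 1 := (Finset.mem_filter.1 hzZ).2.1
        exact ⟨he, by rw [← he, ← mul_smul, hzz, one_smul], hzz⟩
      _ = P.card * (p - 1) := by rw [Finset.sum_const, smul_eq_mul]
  have hpos : 0 < P.card := by
    rw [Finset.offDiag_card, Finset.card_univ, ← Nat.card_eq_fintype_card, hn]
    have : 2 ≤ p ^ 2 + 1 := by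
      have := pow_pos hp.out.pos 2
      omega
    have h1 : p ^ 2 + 1 < (p ^ 2 + 1) * (p ^ 2 + 1) := lt_mul_self (by omega)
    omega
  have h1 : (Nat.card Ω - 2) * P.card ≤ 2 * (p - 1) * P.card :=
    calc (Nat.card Ω - 2) * P.card ≤ (Nat.card Ω - 2) * (2 * Z.card) := Nat.mul_le_mul_left _ hlow
      _ = 2 * ((Nat.card Ω - 2) * Z.card) := by ring
      _ ≤ 2 * (P.card * (p - 1)) := Nat.mul_le_mul_left _ hup
      _ = 2 * (p - 1) * P.card := by ring
  have h3 := Nat.le_of_mul_le_mul_right h1 hpos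
  rw [hn] at h3
  have h4 : p * 3 ≤ p ^ 2 := by
    rw [pow_two]
    exact Nat.mul_le_mul_left p (by
      have := hp.out.two_le
      omega)
  have := hp.out.two_le
  omega

theorem zmod_two_eq_one : ∀ m : ZMod 2, m ≠ 0 → m = 1 := by decide

/-- The exception in degree five. -/
theorem card_of_two (S : Sys G Ω p) (h2 : IsMultiplyPretransitive G Ω 2)
    (hn : Nat.card Ω = p ^ 2 + 1) (hp2 : p = 2) : Nat.card G = 20 := by
  have : IsPretransitive G Ω := MulAction.isPretransitive_of_is_two_pretransitive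
  obtain ⟨a, b, hab⟩ : ∃ a b : Ω, a ≠ b := by
    have : Nontrivial Ω := (Finite.one_lt_card_iff_nontrivial).1 (by
      rw [hn]; have := pow_pos hp.out.pos 2; omega)
    exact exists_pair_ne Ω
  obtain ⟨D⟩ := nonempty_data S h2 hn hab
  obtain ⟨y, hy, hyk⟩ := D.exists_y hn
  obtain ⟨C⟩ := D.nonempty_chars h2 hn hy hyk
  have h1 : Nat.card (two G a b) = 1 := by
    rw [Subgroup.card_eq_one, Subgroup.eq_bot_iff_forall]
    intro h hh
    have hone : ∀ m : ZMod p, m ≠ 0 → m = 1 := by
      subst hp2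
      exact zmod_two_eq_one
    exact C.inj h hh (hone _ (C.f_ne h hh)) (hone _ (C.g_ne h hh))
  rw [← Subgroup.card_mul_index (stabilizer G a), index_stabilizer_of_transitive, hn,
    card_stabilizer h2 hn hab, h1, hp2]
  norm_num

end CfsgLib.PSqOne
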