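import Cfsg.Agent.Lib.Perm.PrimeDegreeEven
import Cfsg.Agent.Lib.PSqOne.Basic

/-!
A transitive group of prime degree is doubly transitive or normalises its cycle.
-/

set_option autoImplicit false

namespace CfsgLib.PSqOne

open MulAction

theorem exists_normal_abelian {R : Type*} [Group R] [Nontrivial R] (h : Group.IsSolvable R) :
    ∃ A : Subgroup R, A.Normal ∧ A ≠ ⊥ ∧ ∀ x ∈ A, ∀ y ∈ A, x * y = y * x := by
  classical
  obtain ⟨n, hn⟩ := Group.isSolvable_def R |>.1 h
  have hex : ∃ n, derivedSeries R n = ⊥ := ⟨n, hn⟩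
  have h0 : Nat.find hex ≠ 0 := by
    intro h0
    have := Nat.find_spec hex
    rw [h0, derivedSeries_zero] at this
    exact bot_ne_top this.symm
  obtain ⟨m, hm⟩ := Nat.exists_eq_succ_of_ne_zero h0
  refine ⟨derivedSeries R m, derivedSeries_normal R m, Nat.find_min hex (by omega), ?_⟩
  have h1 := Nat.find_spec hex
  rw [hm, derivedSeries_succ] at h1
  intro x hx y hy
  have h2 := Subgroup.mem_bot.1 (h1 ▸ Subgroup.commutator_mem_commutator hx hy)
  exact commutatorElement_eq_one_iff_mul_comm.1 h2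

/-- Burnside's dichotomy in prime degree. -/
theorem prime_dichotomy {α : Type*} [Finite α] {p : ℕ} [hp : Fact p.Prime] (hα : Nat.card α = p)
    (R : Subgroup (Equiv.Perm α)) {z : Equiv.Perm α} (hz : z ∈ R) (hord : orderOf z = p) :
    IsMultiplyPretransitive R α 2 ∨ ∀ g ∈ R, g * z * g⁻¹ ∈ Subgroup.zpowers z := by
  classical
  have : Fintype α := Fintype.ofFinite α
  have hα' : Fintype.card α = p := by rw [← Nat.card_eq_fintype_card]; exact hα
  have hz1 : z ≠ 1 := by
    intro h
    rw [h, orderOf_one] at hord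
    exact hp.out.one_lt.ne hord
  obtain ⟨e, he⟩ := CfsgLib.Perm.exists_coords hα'
    (by rw [← hord]; exact pow_orderOf_eq_one z) hz1
  have htr : ∀ c d : α, ∃ k : ℕ, (z ^ k) c = d := by
    intro c d
    refine ⟨(e.symm d - e.symm c).val, ?_⟩
    have := CfsgLib.Perm.pow_apply_coords he (e.symm d - e.symm c).val (e.symm c)
    rw [ZMod.natCast_zmod_val, add_sub_cancel, Equiv.apply_symm_apply,
      Equiv.apply_symm_apply] at this
    exact this
  have : IsPretransitive R α := ⟨fun c d => by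
    obtain ⟨k, hk⟩ := htr c d
    exact ⟨⟨z ^ k, R.pow_mem hz k⟩, hk⟩⟩
  by_cases hsol : Group.IsSolvable R
  swap
  · exact Or.inl (CfsgLib.Perm.two_transitive_of_not_isSolvable hα' R hsol)
  refine Or.inr ?_
  have : Nontrivial R := ⟨⟨z, hz⟩, 1, fun h => hz1 (congrArg Subtype.val h)⟩
  obtain ⟨A, hA, hA1, hcomm⟩ := exists_normal_abelian hsol
  have hprim : IsPreprimitive R α := IsPreprimitive.of_prime_card (by rw [hα]; exact hp.out)
  have hAtr : IsPretransitive A α := by
    refine IsQuasiPreprimitive.isPretransitive_of_normal (G := R) fun h => hA1 ?_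
    refine (Subgroup.eq_bot_iff_forall _).2 fun g hg => Subtype.ext (Equiv.ext fun c => ?_)
    have : c ∈ fixedPoints A α := h ▸ Set.mem_univ c
    exact this ⟨g, hg⟩
  obtain ⟨c0⟩ : Nonempty α := Finite.card_pos_iff.1 (hα ▸ hp.out.pos)
  have hAcard : Nat.card A = p := by
    rw [← hα]
    refine Nat.card_congr (Equiv.ofBijective (fun g : A => g • c0)
      ⟨fun g g' h => ?_, fun c => exists_smul_eq A c0 c⟩)
    refine Subtype.ext (Subtype.ext (Equiv.ext fun c => ?_))
    obtain ⟨u, rfl⟩ := exists_smul_eq A c0 c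
    have h1 : g • u • c0 = g' • u • c0 := by
      have e1 : g * u = u * g := Subtype.ext (hcomm _ g.2 _ u.2)
      have e2 : g' * u = u * g' := Subtype.ext (hcomm _ g'.2 _ u.2)
      rw [← mul_smul, ← mul_smul, e1, e2, mul_smul, mul_smul]
      exact congrArg (u • ·) h
    exact h1
  let Z : Subgroup R := Subgroup.zpowers ⟨z, hz⟩
  have hZcard : Nat.card Z = p := by
    rw [Nat.card_zpowers, ← hord]
    exact (orderOf_injective R.subtype R.subtype_injective ⟨z, hz⟩).symm
  have hAp : IsPGroup p A := IsPGroup.of_card (n := 1) (by rw [hAcard, pow_one])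
  have hZp : IsPGroup p Z := IsPGroup.of_card (n := 1) (by rw [hZcard, pow_one])
  obtain ⟨m, hm⟩ := IsPGroup.iff_card.1 (IsPGroup.to_sup_of_normal_left hAp hZp)
  have hm1 : m ≤ 1 := by
    by_contra h
    exact CfsgLib.Perm.not_sq_dvd_card hα' R
      ((pow_dvd_pow p (by omega : 2 ≤ m)).trans (hm ▸ Subgroup.card_subgroup_dvd_card _))
  have hle : Nat.card ↥(A ⊔ Z) ≤ p := hm ▸ (Nat.pow_le_pow_right hp.out.pos hm1).trans (pow_one p).le
  have hAZ : A = Z := (Subgroup.eq_of_le_of_card_ge le_sup_left (hAcard.symm ▸ hle)).trans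
    (Subgroup.eq_of_le_of_card_ge le_sup_right (hZcard.symm ▸ hle)).symm
  intro g hg
  obtain ⟨k, hk⟩ := Subgroup.mem_zpowers_iff.1
    (hAZ ▸ hA.conj_mem ⟨z, hz⟩ (hAZ ▸ Subgroup.mem_zpowers _) ⟨g, hg⟩)
  exact ⟨k, by simpa using congrArg Subtype.val hk⟩

end CfsgLib.PSqOne
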