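import Cfsg.Agent.Lib.PSqOne.Kernel
import Cfsg.Agent.Lib.PSqOne.Circulant

/-!
A point stabiliser in the block kernel fixes exactly one point in every block.
-/

set_option autoImplicit false
set_option linter.unusedSectionVars false

namespace CfsgLib.PSqOne

open MulAction

variable {G Ω : Type*} [Group G] [MulAction G Ω] {p : ℕ}

/-- The kernel part fixing `b` fixes exactly one point of each block around `a`. -/
def HF (S : Sys G Ω p) (a b : Ω) : Prop :=
  ∀ c, c ≠ a → ∃! d, d ∈ S.blk a c ∧ ∀ k ∈ S.ker a, k • b = b → k • d = d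

variable [Finite G] [Finite Ω] [hp : Fact p.Prime] [FaithfulSMul G Ω]

namespace Data

variable {S : Sys G Ω p} {a b : Ω} (D : Data S a b)
include D

theorem conj_stab_b {u k : G} (hu : u ∈ D.P) (hk : k ∈ S.ker a) (hb : k • b = b) :
    u * k * u⁻¹ ∈ S.ker a ∧ (u * k * u⁻¹) • (u • b) = u • b :=
  ⟨S.conj_mem_ker (D.smul_a hu) hk, by rw [mul_smul, mul_smul, inv_smul_smul, hb]⟩

theorem card_fix_eq {u : G} (hu : u ∈ D.P) :
    Nat.card ↥(S.ker a ⊓ stabilizer G (u • b)) = Nat.card ↥(S.ker a ⊓ stabilizer G b) := by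
  refine (Nat.card_congr
    { toFun := fun k => ⟨u⁻¹ * k.1 * u, Subgroup.mem_inf.2
        ⟨S.conj_mem_ker' (D.smul_a hu) (Subgroup.mem_inf.1 k.2).1, by
          rw [mem_stabilizer_iff, mul_smul, mul_smul,
            mem_stabilizer_iff.1 (Subgroup.mem_inf.1 k.2).2, inv_smul_smul]⟩⟩
      invFun := fun k => ⟨u * k.1 * u⁻¹, Subgroup.mem_inf.2
        (D.conj_stab_b hu (Subgroup.mem_inf.1 k.2).1 (Subgroup.mem_inf.1 k.2).2)⟩
      left_inv := fun k => Subtype.ext (by simp [mul_assoc])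
      right_inv := fun k => Subtype.ext (by simp [mul_assoc]) })

theorem stab_eq {d : Ω} (hd : d ≠ a) (hfix : ∀ k ∈ S.ker a, k • b = b → k • d = d) {k : G}
    (hk : k ∈ S.ker a) (hkd : k • d = d) : k • b = b := by
  obtain ⟨u, hu, rfl⟩ := D.trans d hd
  have h : S.ker a ⊓ stabilizer G b = S.ker a ⊓ stabilizer G (u • b) :=
    Subgroup.eq_of_le_of_card_ge (fun g hg => Subgroup.mem_inf.2
      ⟨(Subgroup.mem_inf.1 hg).1, hfix g (Subgroup.mem_inf.1 hg).1 (Subgroup.mem_inf.1 hg).2⟩)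
      (D.card_fix_eq hu).le
  exact (Subgroup.mem_inf.1 (h.symm ▸ Subgroup.mem_inf.2 ⟨hk, hkd⟩ :
    k ∈ S.ker a ⊓ stabilizer G b)).2

/-- In the doubly transitive case, every fixed point carries the transitivity of its block. -/
theorem trans_of_fixed
    (hTT : ∀ c ∈ S.blk a b, ∀ d ∈ S.blk a b, c ≠ b → d ≠ b → ∃ k ∈ S.ker a, k • b = b ∧ k • c = d)
    {d : Ω} (hd : d ≠ a) (hfix : ∀ k ∈ S.ker a, k • b = b → k • d = d) {z w : Ω}
    (hz : z ∈ S.blk a d) (hw : w ∈ S.blk a d) (hzd : z ≠ d) (hwd : w ≠ d) :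
    ∃ k ∈ S.ker a, k • b = b ∧ k • z = w := by
  obtain ⟨u, hu, rfl⟩ := D.trans d hd
  have hu' : u⁻¹ • a = a := D.smul_a (D.P.inv_mem hu)
  have hmv : ∀ v ∈ S.blk a (u • b), u⁻¹ • v ∈ S.blk a b := fun v hv => by
    have := S.smul_mem u⁻¹ hv
    rwa [hu', inv_smul_smul] at this
  have hne : ∀ v, v ≠ u • b → u⁻¹ • v ≠ b := fun v hv h => hv (by rw [← h, smul_inv_smul])
  obtain ⟨k, hk, hkb, hkz⟩ := hTT _ (hmv z hz) _ (hmv w hw) (hne z hzd) (hne w hwd)
  obtain ⟨h1, h2⟩ := D.conj_stab_b hu hk hkb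
  exact ⟨u * k * u⁻¹, h1, D.stab_eq hd hfix h1 h2, by rw [mul_smul, mul_smul, hkz, smul_inv_smul]⟩

/-- The circulant argument: a point stabiliser in the kernel has a fixed point in every block. -/
theorem exists_fixed (h2' : IsMultiplyPretransitive G Ω 2) (hn : Nat.card Ω = p ^ 2 + 1)
    (hTT : ∀ c ∈ S.blk a b, ∀ d ∈ S.blk a b, c ≠ b → d ≠ b → ∃ k ∈ S.ker a, k • b = b ∧ k • c = d)
    {c : Ω} (hc : c ≠ a) :
    ∃ d ∈ S.blk a c, ∀ k ∈ S.ker a, k • b = b → k • d = d := by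
  classical
  have : Fintype Ω := Fintype.ofFinite Ω
  obtain ⟨u, hu, rfl⟩ := D.trans c hc
  by_cases huk : u ∈ S.ker a
  · exact ⟨b, S.mem_symm D.ne (huk.2 b D.ne.symm), fun k _ hkb => hkb⟩
  -- the orbit of `u • b` under the kernel part fixing `b`
  set O : Set Ω := {w | ∃ k ∈ S.ker a, k • b = b ∧ k • (u • b) = w} with hO
  have hOinv : ∀ k ∈ S.ker a, k • b = b → ∀ w, (k • w ∈ O ↔ w ∈ O) := by
    intro k hk hkb w
    constructor
    · rintro ⟨l, hl, hlb, hlw⟩
      exact ⟨k⁻¹ * l, (S.ker a).mul_mem ((S.ker a).inv_mem hk) hl,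
        by rw [mul_smul, hlb, inv_smul_eq_iff, hkb], by rw [mul_smul, hlw, inv_smul_smul]⟩
    · rintro ⟨l, hl, hlb, rfl⟩
      exact ⟨k * l, (S.ker a).mul_mem hk hl, by rw [mul_smul, hlb, hkb], by rw [mul_smul]⟩
  have hOsub : ∀ w ∈ O, ∃ m, w = (D.xp m * u) • b := by
    rintro w ⟨k, hk, -, rfl⟩
    have hmem := hk.2 _ hc
    rw [D.blk_eq hn hu] at hmem
    obtain ⟨m, hm⟩ := hmem
    exact ⟨m, by rw [D.comm (D.xp_mem m) hu]; exact hm.symm⟩
  set T : Finset (ZMod p) := Finset.univ.filter fun m => (D.xp m * u) • b ∈ O with hT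
  have h0 : (0 : ZMod p) ∈ T := by
    simp only [hT, Finset.mem_filter, Finset.mem_univ, true_and, D.xp_zero, one_mul]
    exact ⟨1, (S.ker a).one_mem, one_smul _ _, one_smul _ _⟩
  by_cases hTu : T = {0}
  · refine ⟨u • b, S.self hc.symm, fun k hk hkb => ?_⟩
    obtain ⟨m, hm⟩ := hOsub (k • (u • b)) ⟨k, hk, hkb, rfl⟩
    have : m ∈ T := by
      simp only [hT, Finset.mem_filter, Finset.mem_univ, true_and]
      exact hm ▸ ⟨k, hk, hkb, rfl⟩
    rw [hTu, Finset.mem_singleton] at this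
    rw [hm, this, D.xp_zero, one_mul]
  have hblk : ∀ k ∈ S.ker a, ∀ m, ∃ m', k • ((D.xp m * u) • b) = (D.xp m' * u) • b := by
    intro k hk m
    have h1 : (u * D.xp m) • b ∈ S.blk a (u • b) := D.blk_eq hn hu ▸ ⟨m, rfl⟩
    have h2 := S.ker_stable hk hc.symm h1
    rw [D.blk_eq hn hu] at h2
    obtain ⟨m', hm'⟩ := h2
    exact ⟨m', by rw [D.comm (D.xp_mem m) hu, D.comm (D.xp_mem m') hu]; exact hm'.symm⟩
  -- the orbit is not the whole block unless no fixed point is needed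
  by_cases hTall : T = Finset.univ
  · exfalso
    have h1 : O = S.blk a (u • b) := by
      refine Set.Subset.antisymm (fun w ⟨k, hk, _, hw⟩ => hw ▸ hk.2 _ hc) fun w hw => ?_
      rw [D.blk_eq hn hu] at hw
      obtain ⟨m, rfl⟩ := hw
      have : m ∈ T := hTall ▸ Finset.mem_univ m
      simp only [hT, Finset.mem_filter, Finset.mem_univ, true_and] at this
      have hgoal : (u * D.xp m) • b ∈ O := by rwa [← D.comm (D.xp_mem m) hu]
      exact hgoal
    have h2 : O = (fun g => g • (u • b)) '' ((S.ker a ⊓ stabilizer G b : Subgroup G) : Set G) := by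
      ext w
      simp only [hO, Set.mem_ofPred_eq, Set.mem_image, SetLike.mem_coe, Subgroup.mem_inf,
        mem_stabilizer_iff]
      exact ⟨fun ⟨k, hk, hkb, h⟩ => ⟨k, ⟨hk, hkb⟩, h⟩, fun ⟨k, ⟨hk, hkb⟩, h⟩ => ⟨k, hk, hkb, h⟩⟩
    have h3 := card_eq_mul_orbit (S.ker a ⊓ stabilizer G b) (u • b)
    have h4 : ((fun g => g • (u • b)) '' ((S.ker a ⊓ stabilizer G b : Subgroup G) : Set G)).ncard = p := by
      rw [← h2, h1, S.card hc.symm]
    rw [h4] at h3
    exact S.not_dvd_two h2' hn D.ne ((Dvd.intro_left _ h3.symm).trans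
      (Subgroup.card_dvd_of_le (inf_le_inf_right _ (S.ker_le a))))
  obtain ⟨r, hr⟩ := D.mem_of_zpowers (D.pow_p_mem hn hu)
  -- the transfer counts
  let R : Ω → Ω → Prop := fun v w => ∃ k ∈ S.ker a, ∃ i : ℕ,
    (k * u ^ i) • b = v ∧ (k * u ^ i)⁻¹ • w ∈ O
  have hwell : ∀ k ∈ S.ker a, ∀ k' ∈ S.ker a, ∀ i j : ℕ, (k * u ^ i) • b = (k' * u ^ j) • b →
      ∀ w, ((k * u ^ i)⁻¹ • w ∈ O ↔ (k' * u ^ j)⁻¹ • w ∈ O) := by
    intro k hk k' hk' i j he w
    set g := (k * u ^ i)⁻¹ * (k' * u ^ j) with hg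
    have hga : g • a = a := by
      have h1 : ∀ n : ℕ, ∀ l ∈ S.ker a, (l * u ^ n) • a = a := fun n l hl => by
        rw [mul_smul, D.smul_a (D.P.pow_mem hu _), hl.1]
      rw [hg, mul_smul, h1 j k' hk', inv_smul_eq_iff, h1 i k hk]
    have hgb : g • b = b := by rw [hg, mul_smul, ← he, inv_smul_smul]
    have hgK : g ∈ S.ker a := by
      have h1 : g = ((u ^ i)⁻¹ * (k⁻¹ * k') * u ^ i) * ((u ^ i)⁻¹ * u ^ j) := by rw [hg]; group
      have h2 : (u ^ i)⁻¹ * (k⁻¹ * k') * u ^ i ∈ S.ker a :=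
        S.conj_mem_ker' (D.smul_a (D.P.pow_mem hu _))
          ((S.ker a).mul_mem ((S.ker a).inv_mem hk) hk')
      have h3 : ((u ^ i)⁻¹ * u ^ j) • b ∈ S.blk a b := by
        have h4 : g • b ∈ S.blk a b := by rw [hgb]; exact S.self D.ne
        rw [h1, mul_smul] at h4
        have h5 := S.ker_stable ((S.ker a).inv_mem h2) D.ne h4
        rwa [inv_smul_smul] at h5
      have h6 : (u ^ i)⁻¹ * u ^ j ∈ S.ker a := Subgroup.zpowers_le.2 D.x_ker
        (D.mem_zpowers_of_blk hn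
          (D.P.mul_mem (D.P.inv_mem (D.P.pow_mem hu _)) (D.P.pow_mem hu _)) h3)
      rw [h1]
      exact (S.ker a).mul_mem h2 h6
    rw [← hOinv g hgK hgb ((k' * u ^ j)⁻¹ • w), ← mul_smul, hg, mul_assoc, mul_inv_cancel, mul_one]
  let W : ℕ → Ω → ℤ := fun n => Nat.rec (fun w => if w = b then 1 else 0)
    (fun _ W w => ∑ v, if R v w then W v else 0) n
  have hWinv : ∀ n, ∀ k ∈ S.ker a, k • b = b → ∀ w, W n (k • w) = W n w := by
    intro n
    induction n with
    | zero =>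
      intro k hk hkb w
      show (if k • w = b then (1 : ℤ) else 0) = if w = b then 1 else 0
      refine if_congr ⟨fun h => ?_, fun h => by rw [h, hkb]⟩ rfl rfl
      exact smul_left_cancel k (h.trans hkb.symm)
    | succ n ih =>
      intro k hk hkb w
      show (∑ v, if R v (k • w) then W n v else 0) = ∑ v, if R v w then W n v else 0
      refine (Fintype.sum_equiv (MulAction.toPerm k) _ _ fun v => ?_).symm
      show (if R v w then W n v else 0) = if R (k • v) (k • w) then W n (k • v) else 0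
      rw [ih k hk hkb v]
      refine if_congr ⟨?_, ?_⟩ rfl rfl
      · rintro ⟨l, hl, i, h1, h2⟩
        refine ⟨k * l, (S.ker a).mul_mem hk hl, i, by rw [mul_assoc, mul_smul, h1], ?_⟩
        rwa [mul_assoc, _root_.mul_inv_rev, mul_smul, inv_smul_smul]
      · rintro ⟨l, hl, i, h1, h2⟩
        refine ⟨k⁻¹ * l, (S.ker a).mul_mem ((S.ker a).inv_mem hk) hl, i,
          by rw [mul_assoc, mul_smul, h1, inv_smul_smul], ?_⟩
        rwa [mul_assoc, _root_.mul_inv_rev, inv_inv, mul_smul]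
  let q : ℕ → ZMod p → Ω := fun i m => (D.xp m * u ^ i) • b
  have hqinj : ∀ i, Function.Injective (q i) := by
    intro i m m' h
    have h1 := D.smul_b_injective (D.P.mul_mem (D.xp_mem m) (D.P.pow_mem hu i))
      (D.P.mul_mem (D.xp_mem m') (D.P.pow_mem hu i)) hn h
    exact ZMod.val_injective p (pow_injOn_Iio_orderOf
      (Set.mem_Iio.2 (by rw [D.x_order]; exact ZMod.val_lt m))
      (Set.mem_Iio.2 (by rw [D.x_order]; exact ZMod.val_lt m')) (mul_right_cancel h1))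
  have hR : ∀ i j m, R (q i j) (q (i + 1) m) ↔ m - j ∈ T := by
    intro i j m
    have h0' : (D.xp j * u ^ i)⁻¹ • q (i + 1) m = (D.xp (m - j) * u) • b := by
      show (D.xp j * u ^ i)⁻¹ • ((D.xp m * u ^ (i + 1)) • b) = _
      rw [← mul_smul]
      congr 1
      rw [inv_mul_eq_iff_eq_mul, mul_assoc, ← mul_assoc (u ^ i),
        D.comm (D.P.pow_mem hu i) (D.xp_mem _), mul_assoc, ← pow_succ, ← mul_assoc, ← D.xp_add,
        add_sub_cancel]
    constructor
    · rintro ⟨k, hk, i', h1, h2⟩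
      have h3 := (hwell k hk _ (D.xp_ker j) i' i h1 _).1 h2
      rw [h0'] at h3
      simp only [hT, Finset.mem_filter, Finset.mem_univ, true_and]
      exact h3
    · intro h
      refine ⟨D.xp j, D.xp_ker j, i, rfl, ?_⟩
      rw [h0']
      simp only [hT, Finset.mem_filter, Finset.mem_univ, true_and] at h
      exact h
  have hsupp : ∀ i, ∀ w, W i w ≠ 0 → ∃ m, w = q i m := by
    intro i
    induction i with
    | zero =>
      intro w hw
      refine ⟨0, ?_⟩
      show w = (D.xp 0 * u ^ 0) • b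
      rw [pow_zero, mul_one, D.xp_zero, one_smul]
      by_contra h
      exact hw (if_neg h)
    | succ i ih =>
      intro w hw
      obtain ⟨v, -, hv⟩ := Finset.exists_ne_zero_of_sum_ne_zero hw
      have hRv : R v w := by by_contra h; exact hv (if_neg h)
      have hWv : W i v ≠ 0 := fun h => hv (by rw [if_pos hRv]; exact h)
      obtain ⟨j, rfl⟩ := ih v hWv
      obtain ⟨k, hk, i', h1, h2⟩ := hRv
      have h3 := (hwell k hk _ (D.xp_ker j) i' i h1 _).1 h2
      obtain ⟨m, hm⟩ := hOsub _ h3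
      refine ⟨j + m, ?_⟩
      rw [inv_smul_eq_iff, ← mul_smul] at hm
      show w = (D.xp (j + m) * u ^ (i + 1)) • b
      rw [hm]
      congr 1
      rw [D.xp_add, mul_assoc, ← mul_assoc (u ^ i), D.comm (D.P.pow_mem hu i) (D.xp_mem m),
        mul_assoc, ← pow_succ, ← mul_assoc]
  have hsum : ∀ i (F : Ω → ℤ), (∀ v, F v ≠ 0 → ∃ j, v = q i j) → ∑ v, F v = ∑ j, F (q i j) := by
    intro i F hF
    rw [← Finset.sum_subset (s₁ := Finset.univ.image (q i)) (Finset.subset_univ _)]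
    · exact Finset.sum_image fun x _ y _ h => hqinj i h
    · intro v _ hv
      by_contra h
      obtain ⟨j, rfl⟩ := hF v h
      exact hv (Finset.mem_image_of_mem _ (Finset.mem_univ j))
  have hWval : ∀ i m, W i (q i m) = (ind T ^ i).coeff m := by
    intro i
    induction i with
    | zero =>
      intro m
      show (if q 0 m = b then (1 : ℤ) else 0) = _
      have h1 : q 0 0 = b := by
        show (D.xp 0 * u ^ 0) • b = b
        rw [pow_zero, mul_one, D.xp_zero, one_smul]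
      rw [pow_zero, AddMonoidAlgebra.one_def, AddMonoidAlgebra.coeff_single, Finsupp.single_apply]
      exact if_congr ⟨fun h => (hqinj 0 (h.trans h1.symm)).symm, fun h => h ▸ h1⟩ rfl rfl
    | succ i ih =>
      intro m
      show (∑ v, if R v (q (i + 1) m) then W i v else 0) = _
      rw [hsum i _ (fun v hv => hsupp i v fun h => hv (by
        show (if R v (q (i + 1) m) then W i v else 0) = 0
        rw [h, ite_self])), pow_succ, show ind T ^ i * ind T =
        ∑ t ∈ T, ind T ^ i * AddMonoidAlgebra.single t 1 from Finset.mul_sum _ _ _,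
        AddMonoidAlgebra.coeff_sum, Finsupp.finsetSum_apply]
      have h1 : ∀ t, ((ind T ^ i) * AddMonoidAlgebra.single t 1).coeff m =
          (ind T ^ i).coeff (m - t) := fun t => by
        rw [AddMonoidAlgebra.coeff_mul_single_eq_coeff_mul (m - t)
          (fun m' _ => eq_sub_iff_add_eq.symm), mul_one]
      rw [Finset.sum_congr rfl fun t _ => h1 t, Finset.sum_congr rfl fun j _ =>
        (if_congr (hR i j m) (ih j) rfl : (if R (q i j) (q (i + 1) m) then W i (q i j) else 0) =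
          if m - j ∈ T then (ind T ^ i).coeff j else 0), ← Finset.sum_filter]
      refine Finset.sum_bij (fun j _ => m - j) (fun j hj => (Finset.mem_filter.1 hj).2)
        (fun j _ j' _ h => sub_right_injective h)
        (fun t ht => ⟨m - t, Finset.mem_filter.2 ⟨Finset.mem_univ _, by rwa [sub_sub_cancel]⟩,
          sub_sub_cancel m t⟩) (fun j _ => by rw [sub_sub_cancel])
  have hqp : ∀ m, q p m = D.xp (m + r) • b := fun m => by
    show (D.xp m * u ^ p) • b = _
    rw [hr, D.xp_add]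
  -- constant away from one point
  have hxb : ∀ n : ZMod p, n ≠ 0 → D.xp n • b ∈ S.blk a b ∧ D.xp n • b ≠ b := fun n hn0 =>
    ⟨(D.xp_ker n).2 b D.ne.symm, fun h => hn0 (by
      have h1 := D.fixed_eq_one (D.xp_mem n) hn D.ne.symm h
      have h2 : D.x ^ n.val = D.x ^ 0 := by rw [pow_zero]; exact h1
      exact (ZMod.val_eq_zero _).1 (pow_injOn_Iio_orderOf
        (Set.mem_Iio.2 (by rw [D.x_order]; exact ZMod.val_lt n))
        (Set.mem_Iio.2 (by rw [D.x_order]; exact hp.out.pos)) h2))⟩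
  obtain ⟨t, ht | ht⟩ := point_or_copoint T ⟨0, h0⟩ hTall (-r)
    ((ind T ^ p).coeff (1 - r)) (fun m hm => by
      obtain ⟨h1, h1'⟩ := hxb (m + r) (fun h => hm (eq_neg_of_add_eq_zero_left h))
      obtain ⟨h2, h2'⟩ := hxb 1 one_ne_zero
      obtain ⟨k, hk, hkb, hke⟩ := hTT _ h1 _ h2 h1' h2'
      rw [← hWval, ← hWval, ← hWinv p k hk hkb (q p m), hqp m, hke, hqp (1 - r), sub_add_cancel])
  · exact absurd (ht.trans (congrArg _ (Finset.mem_singleton.1 (ht ▸ h0)).symm)) hTu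
  · refine ⟨(D.xp t * u) • b, ?_, fun k hk hkb => ?_⟩
    · rw [D.blk_eq hn hu]
      exact ⟨t, by rw [D.comm (D.xp_mem t) hu]⟩
    obtain ⟨m', hm'⟩ := hblk k hk t
    rw [hm']
    by_cases hmt : m' = t
    · rw [hmt]
    exfalso
    have h1 : m' ∈ T := by rw [ht]; simp [hmt]
    simp only [hT, Finset.mem_filter, Finset.mem_univ, true_and] at h1
    rw [← hm', hOinv k hk hkb] at h1
    have h2 : t ∈ T := by simp only [hT, Finset.mem_filter, Finset.mem_univ, true_and]; exact h1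
    rw [ht] at h2
    simp at h2

theorem xp_pow (m : ZMod p) (n : ℕ) : D.xp m ^ n = D.xp (n * m) := by
  induction n with
  | zero => rw [pow_zero, Nat.cast_zero, zero_mul, D.xp_zero]
  | succ n ih => rw [pow_succ, ih, ← D.xp_add]; congr 1; push_cast; ring

theorem xp_injective : Function.Injective D.xp := fun _ _ h =>
  ZMod.val_injective p (pow_injOn_Iio_orderOf
    (Set.mem_Iio.2 (by rw [D.x_order]; exact ZMod.val_lt _))
    (Set.mem_Iio.2 (by rw [D.x_order]; exact ZMod.val_lt _)) h)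

/-- Conjugation on the block part as a multiplier. -/
theorem exists_mult (hQN : ∀ g : G, g • a = a → g * D.x * g⁻¹ ∈ Subgroup.zpowers D.x) {g : G}
    (hg : g • a = a) : ∃ m, m ≠ 0 ∧ ∀ i, g * D.xp i = D.xp (m * i) * g := by
  obtain ⟨m, hm⟩ := D.mem_of_zpowers (hQN g hg)
  refine ⟨m, fun h => ?_, fun i => ?_⟩
  · rw [h, D.xp_zero, mul_inv_eq_one, mul_eq_left] at hm
    have : (1 : G) = D.x := hm.symm
    exact hp.out.one_lt.ne (orderOf_one.symm.trans ((congrArg orderOf this).trans D.x_order))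
  · have h1 : g * D.xp i * g⁻¹ = D.xp (m * i) := by
      rw [xp, ← conj_pow, hm, D.xp_pow, ZMod.natCast_zmod_val, mul_comm]
    exact mul_inv_eq_iff_eq_mul.1 h1

/-- Kernel elements fixing `b` commute when the block part is normal. -/
theorem stab_comm (h2 : IsMultiplyPretransitive G Ω 2) (hn : Nat.card Ω = p ^ 2 + 1)
    (hQN : ∀ g : G, g • a = a → g * D.x * g⁻¹ ∈ Subgroup.zpowers D.x) {k l : G}
    (hk : k ∈ S.ker a) (hkb : k • b = b) (hl : l ∈ S.ker a) (hlb : l • b = b) :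
    k * l = l * k := by
  obtain ⟨m, hm0, hm⟩ := D.exists_mult hQN hk.1
  obtain ⟨n, hn0, hn'⟩ := D.exists_mult hQN hl.1
  have hx : Commute ((l * k)⁻¹ * (k * l)) D.x := by
    show (l * k)⁻¹ * (k * l) * D.x = D.x * ((l * k)⁻¹ * (k * l))
    rw [← D.xp_one]
    have h1 : k * l * D.xp 1 = D.xp (m * n) * (k * l) := by
      rw [mul_assoc, hn', ← mul_assoc, hm, mul_assoc, mul_one]
    have h3 : l * k * D.xp 1 = D.xp (m * n) * (l * k) := by
      rw [mul_assoc, hm, ← mul_assoc, hn', mul_assoc, mul_one, mul_comm n m]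
    calc (l * k)⁻¹ * (k * l) * D.xp 1 = (l * k)⁻¹ * (D.xp (m * n) * (k * l)) := by
          rw [mul_assoc, h1]
      _ = (l * k)⁻¹ * (l * k * D.xp 1 * (l * k)⁻¹ * (k * l)) := by
          rw [h3]; group
      _ = D.xp 1 * ((l * k)⁻¹ * (k * l)) := by group
  have h := D.eq_one_of_commute h2 hn (k := (l * k)⁻¹ * (k * l))
    ((S.ker a).mul_mem ((S.ker a).inv_mem ((S.ker a).mul_mem hl hk)) ((S.ker a).mul_mem hk hl))
    (by rw [mul_smul, mul_smul, hlb, hkb, inv_smul_eq_iff, mul_smul, hkb, hlb]) hx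
  exact (inv_mul_eq_one.1 h).symm

/-- With a normal block part, a nontrivial kernel element fixing `b` fixes exactly one point of
each block. -/
theorem exists_unique_fixed (h2 : IsMultiplyPretransitive G Ω 2) (hn : Nat.card Ω = p ^ 2 + 1)
    (hQN : ∀ g : G, g • a = a → g * D.x * g⁻¹ ∈ Subgroup.zpowers D.x) {k : G}
    (hk : k ∈ S.ker a) (hkb : k • b = b) (hk1 : k ≠ 1) {c : Ω} (hc : c ≠ a) :
    ∃! d, d ∈ S.blk a c ∧ k • d = d := by
  obtain ⟨u, hu, rfl⟩ := D.trans c hc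
  obtain ⟨m, hm0, hm⟩ := D.exists_mult hQN hk.1
  have hm1 : 1 - m ≠ 0 := by
    intro h
    refine hk1 (D.eq_one_of_commute h2 hn hk hkb ?_)
    show k * D.x = D.x * k
    rw [← D.xp_one, hm, ← sub_eq_zero.1 h, one_mul]
  have hmem := hk.2 _ hc
  rw [D.blk_eq hn hu] at hmem
  obtain ⟨s, hs⟩ := hmem
  have hact : ∀ i, k • ((u * D.xp i) • b) = (u * D.xp (m * i + s)) • b := fun i => by
    rw [D.comm hu (D.xp_mem i), mul_smul, ← mul_smul k, hm, mul_smul, ← hs,
      ← mul_smul, ← mul_assoc, D.comm (D.xp_mem _) hu, mul_assoc, ← D.xp_add]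
  have hinj : ∀ i j, (u * D.xp i) • b = (u * D.xp j) • b → i = j := fun i j h =>
    D.xp_injective (mul_left_cancel (D.smul_b_injective (D.P.mul_mem hu (D.xp_mem i))
      (D.P.mul_mem hu (D.xp_mem j)) hn h))
  refine ⟨(u * D.xp (s / (1 - m))) • b, ⟨D.blk_eq hn hu ▸ ⟨_, rfl⟩, ?_⟩, ?_⟩
  · rw [hact]
    congr 3
    field_simp
    ring
  · rintro d ⟨hd, hfd⟩
    rw [D.blk_eq hn hu] at hd
    obtain ⟨i, rfl⟩ := hd
    rw [hact] at hfd
    have h1 := hinj _ _ hfd
    show (u * D.xp i) • b = _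
    congr 3
    rw [eq_div_iff hm1]
    linear_combination -h1

theorem hf_of_ne (h2 : IsMultiplyPretransitive G Ω 2) (hn : Nat.card Ω = p ^ 2 + 1)
    (hQN : ∀ g : G, g • a = a → g * D.x * g⁻¹ ∈ Subgroup.zpowers D.x) {k : G}
    (hk : k ∈ S.ker a) (hkb : k • b = b) (hk1 : k ≠ 1) : HF S a b := by
  intro c hc
  obtain ⟨d, ⟨hd, hdfix⟩, huniq⟩ := D.exists_unique_fixed h2 hn hQN hk hkb hk1 hc
  refine ⟨d, ⟨hd, fun l hl hlb => huniq _ ⟨?_, ?_⟩⟩, fun e he => huniq e ⟨he.1, he.2 k hk hkb⟩⟩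
  · exact S.ker_stable hl hc.symm hd
  · rw [← mul_smul, D.stab_comm h2 hn hQN hk hkb hl hlb, mul_smul, hdfix]

theorem hf_of_trans (h2 : IsMultiplyPretransitive G Ω 2) (hn : Nat.card Ω = p ^ 2 + 1)
    (hp2 : p ≠ 2)
    (hTT : ∀ c ∈ S.blk a b, ∀ d ∈ S.blk a b, c ≠ b → d ≠ b → ∃ k ∈ S.ker a, k • b = b ∧ k • c = d) :
    HF S a b := by
  intro c hc
  obtain ⟨d, hd, hdfix⟩ := D.exists_fixed h2 hn hTT hc
  refine ⟨d, ⟨hd, hdfix⟩, fun e he => ?_⟩
  by_contra hed
  have hda : d ≠ a := (S.ne_of_mem hd).symm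
  have hblk : S.blk a d = S.blk a c := S.eq_of_mem hc.symm hd
  obtain ⟨z, hz, hze⟩ : ∃ z ∈ S.blk a d \ {d}, z ≠ e := by
    apply Set.exists_ne_of_one_lt_ncard
    rw [Set.ncard_sdiff_singleton_of_mem (S.self hda.symm), S.card hda.symm]
    have := hp.out.two_le
    omega
  obtain ⟨k, hk, hkb, hke⟩ := D.trans_of_fixed hTT hda hdfix (hblk ▸ he.1) hz.1 hed hz.2
  exact hze (hke.symm.trans (he.2 k hk hkb))

end Data

theorem HF.transport {S : Sys G Ω p} (h2 : IsMultiplyPretransitive G Ω 2) {a b : Ω} (hab : a ≠ b)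
    (h : HF S a b) {a' b' : Ω} (hab' : a' ≠ b') : HF S a' b' := by
  obtain ⟨g, rfl, rfl⟩ := is_two_pretransitive_iff.1 h2 hab hab'
  intro c hc
  obtain ⟨d, ⟨hd, hfix⟩, huniq⟩ := h (g⁻¹ • c) (fun e => hc (by rw [← smul_inv_smul g c, e]))
  have hker : ∀ k ∈ S.ker (g • a), g⁻¹ * k * g ∈ S.ker a := by
    intro k hk
    refine ⟨by rw [mul_smul, mul_smul, hk.1, inv_smul_smul], fun e he => ?_⟩
    have h1 := hk.2 (g • e) (fun h => he (smul_left_cancel g h))
    rw [mul_smul, mul_smul, ← S.smul_mem_iff g, smul_inv_smul]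
    exact h1
  have hker' : ∀ k ∈ S.ker a, g * k * g⁻¹ ∈ S.ker (g • a) := by
    intro k hk
    refine ⟨by rw [mul_smul, mul_smul, inv_smul_smul, hk.1], fun e he => ?_⟩
    have h1 := S.smul_mem g (hk.2 (g⁻¹ • e) (fun h => he (by rw [← smul_inv_smul g e, h])))
    rwa [smul_inv_smul, ← mul_smul, ← mul_smul] at h1
  refine ⟨g • d, ⟨?_, fun k hk hkb => ?_⟩, fun e he => ?_⟩
  · have := S.smul_mem g hd
    rwa [smul_inv_smul] at this
  · have := hfix _ (hker k hk) (by rw [mul_smul, mul_smul, hkb, inv_smul_smul])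
    rw [mul_smul, mul_smul, inv_smul_eq_iff] at this
    exact this
  · rw [← huniq (g⁻¹ • e) ⟨by simpa using S.smul_mem g⁻¹ he.1, fun k hk hkb => by
      have := he.2 _ (hker' k hk) (by rw [mul_smul, mul_smul, inv_smul_smul, hkb])
      rw [mul_smul, mul_smul] at this
      rw [eq_inv_smul_iff]
      exact this⟩, smul_inv_smul]

/-- The transversal system of common fixed points. -/
noncomputable def col (S : Sys G Ω p) (h2 : IsMultiplyPretransitive G Ω 2)
    (hn : Nat.card Ω = p ^ 2 + 1) (h : ∀ a b : Ω, a ≠ b → HF S a b) : Sys G Ω p where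
  blk a b := {c | c ≠ a ∧ ∀ k ∈ S.ker a, k • b = b → k • c = c}
  smul_mem := by
    rintro g a b c ⟨hca, hc⟩
    refine ⟨fun e => hca (smul_left_cancel g e), fun k hk hkb => ?_⟩
    have hk' : g⁻¹ * k * g ∈ S.ker a := by
      refine ⟨by rw [mul_smul, mul_smul, hk.1, inv_smul_smul], fun e he => ?_⟩
      have h1 := hk.2 (g • e) (fun h => he (smul_left_cancel g h))
      rw [mul_smul, mul_smul, ← S.smul_mem_iff g, smul_inv_smul]
      exact h1
    have := hc _ hk' (by rw [mul_smul, mul_smul, hkb, inv_smul_smul])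
    rw [mul_smul, mul_smul, inv_smul_eq_iff] at this
    exact this
  self hab := ⟨Ne.symm hab, fun _ _ hk => hk⟩
  apex := fun h => h.1 rfl
  eq_of_mem := by
    rintro a b c hab ⟨hca, hc⟩
    obtain ⟨D⟩ := nonempty_data S h2 hn hab
    ext d
    exact ⟨fun hd => ⟨hd.1, fun k hk hkb => hd.2 k hk (hc k hk hkb)⟩,
      fun hd => ⟨hd.1, fun k hk hkc => hd.2 k hk (D.stab_eq hca hc hk hkc)⟩⟩
  card := by
    intro a b hab
    obtain ⟨D⟩ := nonempty_data S h2 hn hab
    obtain ⟨y, hy, hyk⟩ := D.exists_y hn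
    have hfi : ∀ j, ∃! d, d ∈ S.blk a (D.pt y 0 j) ∧ ∀ k ∈ S.ker a, k • b = b → k • d = d :=
      fun j => h a b hab _ (D.pt_ne hy 0 j)
    choose f hf hfu using hfi
    have hinj : Function.Injective f := by
      intro i j hij
      have h1 := S.eq_of_mem (D.pt_ne hy 0 i).symm (hf i).1
      have h3 := S.eq_of_mem (D.pt_ne hy 0 j).symm (hf j).1
      rw [← hij, h1] at h3
      have := S.self (D.pt_ne hy 0 i).symm
      rw [h3] at this
      exact (D.pt_mem_blk_iff hn hy hyk).1 this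
    have hr : Set.range f = {c | c ≠ a ∧ ∀ k ∈ S.ker a, k • b = b → k • c = c} := by
      ext c
      constructor
      · rintro ⟨j, rfl⟩
        exact ⟨(S.ne_of_mem (hf j).1).symm, (hf j).2⟩
      · rintro ⟨hca, hc⟩
        obtain ⟨i, j, rfl⟩ := D.exists_pt hn hy hyk hca
        exact ⟨j, (hfu j _ ⟨(D.pt_mem_blk_iff hn hy hyk).2 rfl, hc⟩).symm⟩
    rw [← hr, Set.ncard_range_of_injective hinj, Nat.card_zmod]

theorem col_meet (S : Sys G Ω p) (h2 : IsMultiplyPretransitive G Ω 2)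
    (hn : Nat.card Ω = p ^ 2 + 1) (h : ∀ a b : Ω, a ≠ b → HF S a b) {a b c : Ω} (hab : a ≠ b)
    (hc : c ∈ S.blk a b) (hc' : c ∈ (col S h2 hn h).blk a b) : c = b :=
  (h a b hab b hab.symm).unique ⟨hc, hc'.2⟩ ⟨S.self hab, fun _ _ hk => hk⟩

end CfsgLib.PSqOne
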