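import Cfsg.Agent.Lib.PSqOne.Dichotomy
import Mathlib.GroupTheory.PGroup

/-!
Coordinates on the other points from the regular Sylow subgroup; the block kernel.
-/

set_option autoImplicit false
set_option linter.unusedSectionVars false

namespace CfsgLib.PSqOne

open MulAction

variable {G Ω : Type*} [Group G] [MulAction G Ω] {p : ℕ}

/-- A regular Sylow subgroup of the stabiliser of `a`, and a generator of its block part. -/
structure Data (S : Sys G Ω p) (a b : Ω) where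
  ne : a ≠ b
  /-- The Sylow subgroup. -/
  P : Subgroup G
  le : P ≤ stabilizer G a
  card : Nat.card P = p ^ 2
  trans : ∀ c, c ≠ a → ∃ g ∈ P, g • b = c
  /-- The generator of the block part. -/
  x : G
  x_mem : x ∈ P
  x_ker : x ∈ S.ker a
  x_order : orderOf x = p

variable [Finite G] [Finite Ω] [hp : Fact p.Prime] [FaithfulSMul G Ω]

theorem nonempty_data (S : Sys G Ω p) (h2 : IsMultiplyPretransitive G Ω 2)
    (hn : Nat.card Ω = p ^ 2 + 1) {a b : Ω} (hab : a ≠ b) : Nonempty (Data S a b) := by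
  obtain ⟨P, hPa, hPp, htr, hcard, hT⟩ := exists_transitive h2 hn hab
  have h0 : (Nat.card (two G a b)).factorization p = 0 :=
    Nat.factorization_eq_zero_of_not_dvd (S.not_dvd_two h2 hn hab)
  rw [h0, pow_zero] at hT
  obtain ⟨hQ, -⟩ := S.exists_index_ker hab hPa hPp htr hcard
  rw [hT, mul_one] at hcard hQ
  obtain ⟨x, hx⟩ := exists_prime_orderOf_dvd_card' (G := ↥(P ⊓ S.ker a)) p (by rw [hQ])
  exact ⟨{
    ne := hab, P := P, le := hPa, card := hcard, trans := htr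
    x := x, x_mem := (Subgroup.mem_inf.1 x.2).1, x_ker := (Subgroup.mem_inf.1 x.2).2
    x_order := (orderOf_injective (P ⊓ S.ker a).subtype (Subgroup.subtype_injective _) x).trans hx }⟩

namespace Data

variable {S : Sys G Ω p} {a b : Ω} (D : Data S a b)
include D

theorem smul_a {g : G} (hg : g ∈ D.P) : g • a = a := D.le hg

/-- Powers of the block generator. -/
def xp (i : ZMod p) : G := D.x ^ i.val

theorem x_pow : D.x ^ p = 1 := by
  have := pow_orderOf_eq_one D.x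
  rwa [D.x_order] at this

theorem xp_natCast (n : ℕ) : D.xp (n : ZMod p) = D.x ^ n := by
  rw [xp, ZMod.val_natCast]
  exact (pow_eq_pow_mod n D.x_pow).symm

theorem xp_add (i j : ZMod p) : D.xp (i + j) = D.xp i * D.xp j := by
  rw [xp, xp, xp, ← pow_add, ZMod.val_add]
  exact (pow_eq_pow_mod _ D.x_pow).symm

theorem xp_zero : D.xp 0 = 1 := by simp [xp]

theorem xp_neg (i : ZMod p) : D.xp (-i) = (D.xp i)⁻¹ :=
  eq_inv_of_mul_eq_one_left (by rw [← D.xp_add, neg_add_cancel, D.xp_zero])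

theorem xp_one : D.xp 1 = D.x := by rw [← Nat.cast_one, D.xp_natCast, pow_one]

theorem xp_mem (i : ZMod p) : D.xp i ∈ D.P := D.P.pow_mem D.x_mem _

theorem xp_ker (i : ZMod p) : D.xp i ∈ S.ker a := (S.ker a).pow_mem D.x_ker _

theorem comm {g h : G} (hg : g ∈ D.P) (hh : h ∈ D.P) : g * h = h * g :=
  congrArg Subtype.val ((IsPGroup.isMulCommutative_of_card_eq_prime_sq D.card).is_comm.comm ⟨g, hg⟩ ⟨h, hh⟩)

theorem mem_of_zpowers {g : G} (hg : g ∈ Subgroup.zpowers D.x) : ∃ i, g = D.xp i := by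
  obtain ⟨k, rfl⟩ := Subgroup.mem_zpowers_iff.1 hg
  refine ⟨(k : ZMod p), ?_⟩
  have h1 : D.x ^ k = D.x ^ (k % (p : ℤ)) := by
    have := (zpow_mod_orderOf D.x k).symm
    rwa [D.x_order] at this
  rw [h1, xp, ← zpow_natCast]
  congr 1
  exact (ZMod.val_intCast k).symm

theorem xp_zpowers (i : ZMod p) : D.xp i ∈ Subgroup.zpowers D.x :=
  Subgroup.npow_mem_zpowers _ _

theorem smul_b_ne {g : G} (hg : g ∈ D.P) : g • b ≠ a := fun h =>
  D.ne (smul_left_cancel g ((D.smul_a hg).trans h.symm))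

theorem smul_b_injective {g h : G} (hg : g ∈ D.P) (hh : h ∈ D.P) (hn : Nat.card Ω = p ^ 2 + 1)
    (e : g • b = h • b) : g = h := by
  have horb : ((fun g => g • b) '' (D.P : Set G)) = {a}ᶜ := by
    ext c
    constructor
    · rintro ⟨u, hu, rfl⟩
      exact D.smul_b_ne hu
    · intro hc
      obtain ⟨u, hu, rfl⟩ := D.trans c hc
      exact ⟨u, hu, rfl⟩
  have h1 : ((fun g => g • b) '' (D.P : Set G)).ncard = (D.P : Set G).ncard := by
    rw [horb, Set.ncard_compl, Set.ncard_singleton, hn, Nat.add_sub_cancel, ← Nat.card_coe_set_eq]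
    exact D.card.symm
  exact ((Set.ncard_image_iff (Set.toFinite _)).1 h1) hg hh e

theorem fixed_eq_one {g : G} (hg : g ∈ D.P) (hn : Nat.card Ω = p ^ 2 + 1) {c : Ω} (hc : c ≠ a)
    (h : g • c = c) : g = 1 := by
  obtain ⟨u, hu, rfl⟩ := D.trans c hc
  have := D.smul_b_injective (D.P.mul_mem hg hu) hu hn (by rw [mul_smul]; exact h)
  exact mul_eq_right.1 this

theorem blk_eq (hn : Nat.card Ω = p ^ 2 + 1) {u : G} (hu : u ∈ D.P) :
    S.blk a (u • b) = Set.range fun i => (u * D.xp i) • b := by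
  refine (Set.eq_of_subset_of_ncard_le ?_ ?_).symm
  · rintro _ ⟨i, rfl⟩
    have h1 := S.smul_mem u (S.ker_stable (D.xp_ker i) D.ne (S.self D.ne))
    rwa [D.smul_a hu, ← mul_smul] at h1
  · rw [S.card (D.smul_b_ne hu).symm]
    have : Function.Injective fun i => (u * D.xp i) • b := by
      intro i j h
      have h1 : u * D.xp i = u * D.xp j := D.smul_b_injective (D.P.mul_mem hu (D.xp_mem i))
        (D.P.mul_mem hu (D.xp_mem j)) hn h
      have h2 := mul_left_cancel h1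
      rw [xp, xp] at h2
      exact ZMod.val_injective p (pow_injOn_Iio_orderOf
        (Set.mem_Iio.2 (by rw [D.x_order]; exact ZMod.val_lt i)) (Set.mem_Iio.2 (by rw [D.x_order]; exact ZMod.val_lt j)) h2)
    rw [Set.ncard_range_of_injective this, Nat.card_zmod]

theorem blk_b (hn : Nat.card Ω = p ^ 2 + 1) {c : Ω} (hc : c ∈ S.blk a b) :
    ∃ i, c = D.xp i • b := by
  have := D.blk_eq hn D.P.one_mem
  rw [one_smul] at this
  rw [this] at hc
  obtain ⟨i, rfl⟩ := hc
  exact ⟨i, by simp⟩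

theorem mem_zpowers_of_blk (hn : Nat.card Ω = p ^ 2 + 1) {g : G} (hg : g ∈ D.P)
    (h : g • b ∈ S.blk a b) : g ∈ Subgroup.zpowers D.x := by
  obtain ⟨i, hi⟩ := D.blk_b hn h
  rw [D.smul_b_injective hg (D.xp_mem i) hn hi]
  exact D.xp_zpowers i

theorem mem_zpowers_of_ker (hn : Nat.card Ω = p ^ 2 + 1) {g : G} (hg : g ∈ D.P)
    (h : g ∈ S.ker a) : g ∈ Subgroup.zpowers D.x :=
  D.mem_zpowers_of_blk hn hg (h.2 b D.ne.symm)

theorem exists_y (hn : Nat.card Ω = p ^ 2 + 1) : ∃ y ∈ D.P, y ∉ S.ker a := by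
  by_contra h
  push Not at h
  have hle : D.P ≤ Subgroup.zpowers D.x := fun g hg => D.mem_zpowers_of_ker hn hg (h g hg)
  have := Nat.le_of_dvd Nat.card_pos (Subgroup.card_dvd_of_le hle)
  rw [D.card, Nat.card_zpowers, D.x_order] at this
  nlinarith [hp.out.two_le]

variable {y : G}

/-- The subgroup generated by `x` and any element outside the kernel is everything. -/
theorem le_of_mem (hn : Nat.card Ω = p ^ 2 + 1) (N : Subgroup G) (hx : D.x ∈ N) (hy : y ∈ D.P)
    (hyk : y ∉ S.ker a) (hyN : y ∈ N) : D.P ≤ N := by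
  have h1 : Nat.card (Subgroup.zpowers D.x) = p := by rw [Nat.card_zpowers, D.x_order]
  have hle : Subgroup.zpowers D.x ≤ D.P ⊓ N :=
    Subgroup.zpowers_le.2 (Subgroup.mem_inf.2 ⟨D.x_mem, hx⟩)
  have hne : Subgroup.zpowers D.x ≠ D.P ⊓ N := fun e => hyk (by
    obtain ⟨i, rfl⟩ := D.mem_of_zpowers (e ▸ Subgroup.mem_inf.2 ⟨hy, hyN⟩)
    exact D.xp_ker i)
  obtain ⟨n, hn2, hcard⟩ := (Nat.dvd_prime_pow hp.out).1
    ((Subgroup.card_dvd_of_le (inf_le_left : D.P ⊓ N ≤ D.P)).trans (dvd_of_eq D.card))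
  have h2 : Nat.card (Subgroup.zpowers D.x) < Nat.card ↥(D.P ⊓ N) :=
    not_le.1 fun h => hne (Subgroup.eq_of_le_of_card_ge hle h)
  rw [h1, hcard] at h2
  have : 1 < n := (Nat.pow_lt_pow_iff_right hp.out.one_lt).1 (by rwa [pow_one])
  obtain rfl : n = 2 := by omega
  exact inf_eq_left.1 (Subgroup.eq_of_le_of_card_ge inf_le_left (by rw [hcard, D.card]))

theorem pow_p_mem (hn : Nat.card Ω = p ^ 2 + 1) (hy : y ∈ D.P) :
    y ^ p ∈ Subgroup.zpowers D.x := by
  let Z := (Subgroup.zpowers D.x).subgroupOf D.P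
  have : Z.Normal := ⟨fun g hg u => by
    have : u * g * u⁻¹ = g :=
      mul_inv_eq_iff_eq_mul.2 (Subtype.ext (D.comm u.2 g.2))
    rwa [this]⟩
  have hidx : Z.index = p := by
    have h1 := Subgroup.card_mul_index Z
    rw [Nat.card_congr (Subgroup.subgroupOfEquivOfLe (Subgroup.zpowers_le.2 D.x_mem)).toEquiv,
      Nat.card_zpowers, D.x_order, D.card, pow_two] at h1
    exact Nat.eq_of_mul_eq_mul_left hp.out.pos h1
  have := Subgroup.pow_index_mem Z ⟨y, hy⟩
  rw [hidx] at this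
  exact this

/-- The block index: `xp i * y ^ j` meets the block of `b` only for `j = 0`. -/
theorem pow_mem_ker_iff (hn : Nat.card Ω = p ^ 2 + 1) (hy : y ∈ D.P) (hyk : y ∉ S.ker a) (k : ℕ) :
    y ^ k ∈ S.ker a ↔ (p ∣ k) := by
  constructor
  · intro h
    by_contra hk
    obtain ⟨m, hm⟩ := Nat.exists_mul_mod_eq_one_of_coprime
      ((hp.out.coprime_iff_not_dvd.2 hk).symm) hp.out.one_lt
    have h1 : (y ^ p) ^ (k * m / p) ∈ S.ker a := (S.ker a).pow_mem
      ((Subgroup.zpowers_le.2 D.x_ker) (D.pow_p_mem hn hy)) _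
    have h2 : (y ^ k) ^ m ∈ S.ker a := (S.ker a).pow_mem h _
    rw [← pow_mul, ← Nat.div_add_mod (k * m) p, hm.2, pow_add, pow_one, pow_mul] at h2
    exact hyk ((Subgroup.mul_mem_cancel_left _ h1).1 h2)
  · rintro ⟨c, rfl⟩
    rw [pow_mul]
    exact (S.ker a).pow_mem ((Subgroup.zpowers_le.2 D.x_ker) (D.pow_p_mem hn hy)) _

/-- Powers of `y` in coordinates. -/
theorem exists_pow_eq (hn : Nat.card Ω = p ^ 2 + 1) (hy : y ∈ D.P) (k : ℕ) :
    ∃ s, y ^ k = D.xp s * y ^ ((k : ZMod p)).val := by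
  obtain ⟨t, ht⟩ := D.mem_of_zpowers ((Subgroup.zpowers D.x).pow_mem (D.pow_p_mem hn hy) (k / p))
  refine ⟨t, ?_⟩
  rw [← ht, ZMod.val_natCast, ← pow_mul, ← pow_add, Nat.div_add_mod]

/-- Coordinates of a point. -/
def pt (y : G) (i j : ZMod p) : Ω := (D.xp i * y ^ j.val) • b

theorem elt_mem (hy : y ∈ D.P) (i j : ZMod p) : D.xp i * y ^ j.val ∈ D.P :=
  D.P.mul_mem (D.xp_mem i) (D.P.pow_mem hy _)

theorem pt_ne (hy : y ∈ D.P) (i j : ZMod p) : D.pt y i j ≠ a := D.smul_b_ne (D.elt_mem hy i j)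

theorem pt_injective (hn : Nat.card Ω = p ^ 2 + 1) (hy : y ∈ D.P) (hyk : y ∉ S.ker a)
    {i j i' j' : ZMod p} (h : D.pt y i j = D.pt y i' j') : i = i' ∧ j = j' := by
  have h1 := D.smul_b_injective (D.elt_mem hy i j) (D.elt_mem hy i' j') hn h
  have hj : j = j' := by
    wlog hlt : j.val ≤ j'.val generalizing i j i' j' with H
    · exact (H h.symm h1.symm (le_of_not_ge hlt)).symm
    have h2 : y ^ (j'.val - j.val) = D.xp (i - i') := by
      have : D.xp i' * y ^ (j'.val - j.val) * y ^ j.val = D.xp i * y ^ j.val := by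
        rw [mul_assoc, ← pow_add, Nat.sub_add_cancel hlt, h1]
      rw [sub_eq_neg_add, D.xp_add, D.xp_neg, ← mul_right_cancel this, inv_mul_cancel_left]
    have h3 := (D.pow_mem_ker_iff hn hy hyk _).1 (h2 ▸ D.xp_ker _)
    apply ZMod.val_injective
    have := ZMod.val_lt j'
    by_contra hne
    have := Nat.le_of_dvd (by omega) h3
    omega
  subst hj
  refine ⟨ZMod.val_injective p (pow_injOn_Iio_orderOf
    (Set.mem_Iio.2 (by rw [D.x_order]; exact ZMod.val_lt i)) (Set.mem_Iio.2 (by rw [D.x_order]; exact ZMod.val_lt i'))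
    (mul_right_cancel h1)), rfl⟩

theorem exists_pt (hn : Nat.card Ω = p ^ 2 + 1) (hy : y ∈ D.P) (hyk : y ∉ S.ker a) {c : Ω}
    (hc : c ≠ a) : ∃ i j, c = D.pt y i j := by
  let f : ZMod p × ZMod p → Ω := fun q => D.pt y q.1 q.2
  have hf : Function.Injective f := fun q q' h =>
    Prod.ext (D.pt_injective hn hy hyk h).1 (D.pt_injective hn hy hyk h).2
  have h1 : Set.range f = {a}ᶜ := Set.eq_of_subset_of_ncard_le
    (by rintro _ ⟨q, rfl⟩; exact D.pt_ne hy q.1 q.2)
    (by rw [Set.ncard_range_of_injective hf, Nat.card_prod, Nat.card_zmod, Set.ncard_compl,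
      Set.ncard_singleton, hn, Nat.add_sub_cancel, pow_two])
  obtain ⟨q, rfl⟩ : c ∈ Set.range f := h1 ▸ hc
  exact ⟨q.1, q.2, rfl⟩

theorem pt_mem_blk_iff (hn : Nat.card Ω = p ^ 2 + 1) (hy : y ∈ D.P) (hyk : y ∉ S.ker a)
    {i j i' j' : ZMod p} : D.pt y i j ∈ S.blk a (D.pt y i' j') ↔ j = j' := by
  rw [show S.blk a (D.pt y i' j') = _ from D.blk_eq hn (D.elt_mem hy i' j')]
  have hkey : ∀ t, (D.xp i' * y ^ j'.val * D.xp t) • b = D.pt y (i' + t) j' := fun t => by
    rw [pt, D.xp_add, mul_assoc, D.comm (D.P.pow_mem hy _) (D.xp_mem t), ← mul_assoc]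
  constructor
  · rintro ⟨t, ht⟩
    exact (D.pt_injective hn hy hyk ((hkey t).symm.trans ht)).2.symm
  · rintro rfl
    exact ⟨i - i', (hkey _).trans (by rw [add_sub_cancel])⟩

/-- The block kernel is faithful on each block. -/
theorem ker_eq_one (h2 : IsMultiplyPretransitive G Ω 2) (hn : Nat.card Ω = p ^ 2 + 1) {k : G}
    (hk : k ∈ S.ker a) (hfix : ∀ c ∈ S.blk a b, k • c = c) : k = 1 := by
  let N : Subgroup G :=
    { carrier := {g | g ∈ S.ker a ∧ ∀ c ∈ S.blk a b, g • c = c}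
      one_mem' := ⟨(S.ker a).one_mem, fun c _ => one_smul _ _⟩
      mul_mem' := fun {g h} hg hh => ⟨(S.ker a).mul_mem hg.1 hh.1, fun c hc => by
        rw [mul_smul, hh.2 c hc, hg.2 c hc]⟩
      inv_mem' := fun {g} hg => ⟨(S.ker a).inv_mem hg.1, fun c hc => by
        rw [inv_smul_eq_iff, hg.2 c hc]⟩ }
  have hNtwo : N ≤ two G a b := fun g hg => mem_two.2 ⟨hg.1.1, hg.2 b (S.self D.ne)⟩
  refine FaithfulSMul.eq_of_smul_eq_smul (α := Ω) fun d => ?_
  rw [one_smul]
  rcases eq_or_ne d a with rfl | hd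
  · exact hk.1
  set O : Set Ω := (fun g => g • d) '' (N : Set G) with hO
  have hndvd : ¬ p ∣ O.ncard := fun h => S.not_dvd_two h2 hn D.ne
    ((h.trans (Dvd.intro_left _ (card_eq_mul_orbit N d).symm)).trans (Subgroup.card_dvd_of_le hNtwo))
  have hOblk : O ⊆ S.blk a d := by
    rintro _ ⟨g, hg, rfl⟩
    exact hg.1.2 d hd
  have hconj : ∀ i : ZMod p, ∀ g ∈ N, D.xp i * g * (D.xp i)⁻¹ ∈ N := by
    intro i g hg
    refine ⟨(S.ker a).mul_mem ((S.ker a).mul_mem (D.xp_ker i) hg.1) ((S.ker a).inv_mem (D.xp_ker i)),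
      fun c hc => ?_⟩
    rw [mul_smul, mul_smul, hg.2 _ (S.ker_stable ((S.ker a).inv_mem (D.xp_ker i)) D.ne hc),
      smul_inv_smul]
  by_contra hkd
  have hd2 : 1 < O.ncard := by
    rw [Set.one_lt_ncard]
    exact ⟨d, ⟨1, N.one_mem, one_smul _ _⟩, k • d, ⟨k, ⟨hk, hfix⟩, rfl⟩, Ne.symm hkd⟩
  let f : ZMod p × O → S.blk a d := fun q =>
    ⟨D.xp q.1 • (q.2 : Ω), S.ker_stable (D.xp_ker _) (Ne.symm hd) (hOblk q.2.2)⟩
  have hf : Function.Injective f := by
    rintro ⟨i, o, ho⟩ ⟨i', o', ho'⟩ h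
    have h' : D.xp i • o = D.xp i' • o' := congrArg Subtype.val h
    by_cases hii : i = i'
    · subst hii
      simp only [Prod.mk.injEq, true_and, Subtype.mk.injEq]
      exact smul_left_cancel _ h'
    exfalso
    -- a nontrivial power of `x` preserves the orbit, so the orbit is the whole block
    have hm : D.xp (i - i') • o = o' := by
      rw [sub_eq_neg_add, D.xp_add, D.xp_neg, mul_smul, h', inv_smul_smul]
    have hinv : ∀ c ∈ O, D.xp (i - i') • c ∈ O := by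
      rintro _ ⟨g, hg, rfl⟩
      obtain ⟨g1, hg1, hg1o⟩ := ho
      obtain ⟨g2, hg2, hg2o⟩ := ho'
      refine ⟨(D.xp (i - i') * (g * g1⁻¹) * (D.xp (i - i'))⁻¹) * g2,
        N.mul_mem (hconj _ _ (N.mul_mem hg (N.inv_mem hg1))) hg2, ?_⟩
      have h3 : g1⁻¹ • o = d := by rw [inv_smul_eq_iff]; exact hg1o.symm
      simp only [mul_smul]
      rw [show g2 • d = o' from hg2o, inv_smul_eq_iff.2 hm.symm, h3]
    have hall : ∀ (n : ℕ), D.xp (n * (i - i')) • d ∈ O := by
      intro n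
      induction n with
      | zero => simpa [D.xp_zero, hO] using (⟨1, N.one_mem, one_smul _ _⟩ : d ∈ O)
      | succ n ih =>
        rw [show ((n + 1 : ℕ) : ZMod p) * (i - i') = (i - i') + n * (i - i') by push_cast; ring,
          D.xp_add, mul_smul]
        exact hinv _ ih
    have hsub : Set.range (fun t : ZMod p => D.xp t • d) ⊆ O := by
      rintro _ ⟨t, rfl⟩
      have := hall (t / (i - i')).val
      rwa [ZMod.natCast_zmod_val, div_mul_cancel₀ t (sub_ne_zero.2 hii)] at this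
    have h4 : O = S.blk a d := Set.eq_of_subset_of_ncard_le hOblk (by
      rw [S.card (Ne.symm hd)]
      refine le_trans (le_of_eq ?_) (Set.ncard_le_ncard hsub)
      rw [Set.ncard_range_of_injective, Nat.card_zmod]
      intro t t' h
      by_contra hne
      have := D.fixed_eq_one (D.xp_mem (t - t')) hn hd (by
        have h0 : D.xp t • d = D.xp t' • d := h
        rw [sub_eq_neg_add, D.xp_add, D.xp_neg, mul_smul, h0, inv_smul_smul])
      have h5 : D.x ^ (t - t').val = D.x ^ 0 := by rw [pow_zero]; exact this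
      refine hne (sub_eq_zero.1 ((ZMod.val_eq_zero _).1 (pow_injOn_Iio_orderOf
        (Set.mem_Iio.2 (by rw [D.x_order]; exact ZMod.val_lt _))
        (Set.mem_Iio.2 (by rw [D.x_order]; exact hp.out.pos)) h5))))
    exact hndvd (by rw [h4, S.card (Ne.symm hd)])
  have := Nat.card_le_card_of_injective f hf
  rw [Nat.card_prod, Nat.card_zmod, Nat.card_coe_set_eq, Nat.card_coe_set_eq,
    S.card (Ne.symm hd)] at this
  nlinarith [hp.out.pos]

/-- A kernel element fixing `b` and commuting with `x` is trivial. -/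
theorem eq_one_of_commute (h2 : IsMultiplyPretransitive G Ω 2) (hn : Nat.card Ω = p ^ 2 + 1) {k : G}
    (hk : k ∈ S.ker a) (hb : k • b = b) (hx : Commute k D.x) : k = 1 := by
  refine D.ker_eq_one h2 hn hk fun c hc => ?_
  obtain ⟨i, rfl⟩ := D.blk_b hn hc
  rw [← mul_smul, show k * D.xp i = D.xp i * k from hx.pow_right _, mul_smul, hb]

theorem mem_zpowers_of_commute (h2 : IsMultiplyPretransitive G Ω 2) (hn : Nat.card Ω = p ^ 2 + 1)
    {k : G} (hk : k ∈ S.ker a) (hx : Commute k D.x) : k ∈ Subgroup.zpowers D.x := by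
  obtain ⟨i, hi⟩ := D.blk_b hn (hk.2 b D.ne.symm)
  have h1 : (D.xp i)⁻¹ * k = 1 := D.eq_one_of_commute h2 hn
    ((S.ker a).mul_mem ((S.ker a).inv_mem (D.xp_ker i)) hk) (by rw [mul_smul, hi, inv_smul_smul])
    (((Commute.refl D.x).pow_left _).inv_left.mul_left hx)
  rw [inv_mul_eq_one] at h1
  exact h1 ▸ D.xp_zpowers i

theorem card_ker (hn : Nat.card Ω = p ^ 2 + 1) :
    Nat.card (S.ker a) = Nat.card ↥(S.ker a ⊓ stabilizer G b) * p := by
  rw [card_eq_mul_orbit (S.ker a) b]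
  congr 1
  refine (congrArg Set.ncard (?_ : _ = S.blk a b)).trans (S.card D.ne)
  refine Set.Subset.antisymm ?_ fun c hc => ?_
  · rintro _ ⟨g, hg, rfl⟩
    exact hg.2 b D.ne.symm
  · obtain ⟨i, rfl⟩ := D.blk_b hn hc
    exact ⟨D.xp i, D.xp_ker i, rfl⟩

/-- A normal block part in the kernel is normal in the whole point stabiliser. -/
theorem normal_of_ker_normal (h2 : IsMultiplyPretransitive G Ω 2) (hn : Nat.card Ω = p ^ 2 + 1)
    (h : ∀ k ∈ S.ker a, k * D.x * k⁻¹ ∈ Subgroup.zpowers D.x) {g : G} (hg : g • a = a) :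
    g * D.x * g⁻¹ ∈ Subgroup.zpowers D.x := by
  set w := g * D.x * g⁻¹ with hw
  have hwK : w ∈ S.ker a := S.conj_mem_ker hg D.x_ker
  let Z : Subgroup (S.ker a) := Subgroup.zpowers ⟨D.x, D.x_ker⟩
  have hZn : Z.Normal := ⟨fun u hu k => by
    obtain ⟨n, rfl⟩ := Subgroup.mem_zpowers_iff.1 hu
    rw [← conj_zpow]
    refine Z.zpow_mem ?_ n
    obtain ⟨m, hm⟩ := Subgroup.mem_zpowers_iff.1 (h k k.2)
    exact ⟨m, Subtype.ext (by simpa using hm)⟩⟩
  let W : Subgroup (S.ker a) := Subgroup.zpowers ⟨w, hwK⟩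
  have hZc : Nat.card Z = p := by
    rw [Nat.card_zpowers]
    exact (orderOf_injective (S.ker a).subtype (Subgroup.subtype_injective _)
      ⟨D.x, D.x_ker⟩).symm.trans D.x_order
  have hwo : orderOf w = p := (orderOf_injective (MulAut.conj g).toMonoidHom
    (MulAut.conj g).injective D.x).trans D.x_order
  have hWc : Nat.card W = p := by
    rw [Nat.card_zpowers]
    exact (orderOf_injective (S.ker a).subtype (Subgroup.subtype_injective _)
      ⟨w, hwK⟩).symm.trans hwo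
  obtain ⟨m, hm⟩ := IsPGroup.iff_card.1 (IsPGroup.to_sup_of_normal_left (H := Z) (K := W)
    (IsPGroup.of_card (n := 1) (by rw [hZc, pow_one]))
    (IsPGroup.of_card (n := 1) (by rw [hWc, pow_one])))
  have hm1 : m ≤ 1 := by
    by_contra hlt
    have h3 : p * p ∣ Nat.card ↥(S.ker a ⊓ stabilizer G b) * p := by
      rw [← pow_two, ← D.card_ker hn]
      exact (pow_dvd_pow p (by omega : 2 ≤ m)).trans (hm ▸ Subgroup.card_subgroup_dvd_card _)
    exact S.not_dvd_two h2 hn D.ne ((Nat.dvd_of_mul_dvd_mul_right hp.out.pos h3).trans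
      (Subgroup.card_dvd_of_le (inf_le_inf_right _ (S.ker_le a))))
  have hZW : Z = Z ⊔ W := Subgroup.eq_of_le_of_card_ge le_sup_left (by
    rw [hm, hZc]; exact (Nat.pow_le_pow_right hp.out.pos hm1).trans (pow_one p).le)
  have : (⟨w, hwK⟩ : S.ker a) ∈ Z := hZW ▸ Subgroup.mem_sup_right (Subgroup.mem_zpowers _)
  obtain ⟨n, hn'⟩ := Subgroup.mem_zpowers_iff.1 this
  exact ⟨n, by simpa using congrArg Subtype.val hn'⟩

/-- The kernel is doubly transitive on the block of `b`, or normalises its part in `P`. -/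
theorem ker_dichotomy (h2 : IsMultiplyPretransitive G Ω 2) (hn : Nat.card Ω = p ^ 2 + 1) :
    (p ≠ 2 ∧ ∀ c ∈ S.blk a b, ∀ d ∈ S.blk a b, c ≠ b → d ≠ b →
        ∃ k ∈ S.ker a, k • b = b ∧ k • c = d) ∨
      ∀ g : G, g • a = a → g * D.x * g⁻¹ ∈ Subgroup.zpowers D.x := by
  classical
  suffices h : (p ≠ 2 ∧ ∀ c ∈ S.blk a b, ∀ d ∈ S.blk a b, c ≠ b → d ≠ b →
      ∃ k ∈ S.ker a, k • b = b ∧ k • c = d) ∨
      ∀ k ∈ S.ker a, k * D.x * k⁻¹ ∈ Subgroup.zpowers D.x from
    h.imp id fun h g hg => D.normal_of_ker_normal h2 hn h hg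
  let act : MulAction (S.ker a) (S.blk a b) :=
    { smul := fun k c => ⟨(k : G) • (c : Ω), S.ker_stable k.2 D.ne c.2⟩
      one_smul := fun c => Subtype.ext (one_smul G (c : Ω))
      mul_smul := fun k l c => Subtype.ext (mul_smul (k : G) (l : G) (c : Ω)) }
  let _inst := act
  let ρ : S.ker a →* Equiv.Perm (S.blk a b) := toPermHom _ _
  have hρ : Function.Injective ρ := by
    rw [injective_iff_map_eq_one]
    intro k hk
    refine Subtype.ext (D.ker_eq_one h2 hn k.2 fun c hc => ?_)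
    exact congrArg Subtype.val (Equiv.ext_iff.1 hk ⟨c, hc⟩)
  have hord : orderOf (ρ ⟨D.x, D.x_ker⟩) = p := by
    rw [orderOf_injective ρ hρ]
    exact (orderOf_injective (S.ker a).subtype (Subgroup.subtype_injective _)
      ⟨D.x, D.x_ker⟩).symm.trans D.x_order
  have hcard : Nat.card (S.blk a b) = p := by rw [Nat.card_coe_set_eq, S.card D.ne]
  have hQN : (∀ g ∈ ρ.range, g * ρ ⟨D.x, D.x_ker⟩ * g⁻¹ ∈ Subgroup.zpowers (ρ ⟨D.x, D.x_ker⟩)) →
      ∀ k ∈ S.ker a, k * D.x * k⁻¹ ∈ Subgroup.zpowers D.x := by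
    intro h k hk
    obtain ⟨n, hn'⟩ := h (ρ ⟨k, hk⟩) ⟨_, rfl⟩
    refine ⟨n, ?_⟩
    have := hρ ((map_zpow ρ ⟨D.x, D.x_ker⟩ n).trans (hn'.trans (by rw [map_mul, map_mul, map_inv] :
      _ = ρ (⟨k, hk⟩ * ⟨D.x, D.x_ker⟩ * ⟨k, hk⟩⁻¹))))
    simpa using congrArg Subtype.val this
  rcases eq_or_ne p 2 with hp2 | hp2
  · refine Or.inr (hQN fun g hg => ?_)
    have h1 : Nat.card (Equiv.Perm (S.blk a b)) = 2 := by
      rw [Nat.card_perm, hcard, hp2]; rfl
    have h3 : Subgroup.zpowers (ρ ⟨D.x, D.x_ker⟩) = ⊤ := Subgroup.eq_top_of_card_eq _ (by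
      rw [Nat.card_zpowers, hord, h1, hp2])
    rw [h3]
    exact Subgroup.mem_top _
  rcases prime_dichotomy hcard ρ.range ⟨_, rfl⟩ hord with h | h
  · refine Or.inl ⟨hp2, fun c hc d hd hcb hdb => ?_⟩
    obtain ⟨⟨g, k, rfl⟩, hg1, hg2⟩ := is_two_pretransitive_iff.1 h
      (show (⟨b, S.self D.ne⟩ : S.blk a b) ≠ ⟨c, hc⟩ from fun e => hcb (congrArg Subtype.val e).symm)
      (show (⟨b, S.self D.ne⟩ : S.blk a b) ≠ ⟨d, hd⟩ from fun e => hdb (congrArg Subtype.val e).symm)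
    exact ⟨k, k.2, congrArg Subtype.val hg1, congrArg Subtype.val hg2⟩
  · exact Or.inr (hQN h)

end Data

end CfsgLib.PSqOne
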