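import Mathlib.GroupTheory.GroupAction.Basic
import Mathlib.GroupTheory.GroupAction.MultipleTransitivity
import Mathlib.Data.Set.Card
import Mathlib.Data.Fintype.BigOperators

/-!
Systems of blocks around every point of a doubly transitive group of degree `p² + 1`, and the two
counting obstructions: symmetric lines form an impossible design, twisted twins are impossible.
-/

set_option autoImplicit false

namespace CfsgLib.PSqOne

open Finset

/-- Around every point `a` a partition of the other points into sets of size `p`, equivariantly. -/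
structure Sys (G Ω : Type*) [Group G] [MulAction G Ω] (p : ℕ) where
  /-- The member around `a` containing `b`. -/
  blk : Ω → Ω → Set Ω
  smul_mem : ∀ (g : G) {a b c : Ω}, c ∈ blk a b → g • c ∈ blk (g • a) (g • b)
  self : ∀ {a b : Ω}, a ≠ b → b ∈ blk a b
  apex : ∀ {a b : Ω}, a ∉ blk a b
  eq_of_mem : ∀ {a b c : Ω}, a ≠ b → c ∈ blk a b → blk a c = blk a b
  card : ∀ {a b : Ω}, a ≠ b → (blk a b).ncard = p

namespace Sys

variable {G Ω : Type*} [Group G] [MulAction G Ω] {p : ℕ} (S : Sys G Ω p)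

theorem smul_mem_iff (g : G) {a b c : Ω} : g • c ∈ S.blk (g • a) (g • b) ↔ c ∈ S.blk a b :=
  ⟨fun h => by simpa using S.smul_mem g⁻¹ h, S.smul_mem g⟩

theorem smul_blk (g : G) (a b : Ω) :
    (fun c => g • c) '' S.blk a b = S.blk (g • a) (g • b) := by
  ext c
  constructor
  · rintro ⟨d, hd, rfl⟩
    exact S.smul_mem g hd
  · intro hc
    exact ⟨g⁻¹ • c, by simpa using S.smul_mem g⁻¹ hc, smul_inv_smul g c⟩

theorem ne_of_mem {a b c : Ω} (h : c ∈ S.blk a b) : a ≠ c := fun e => S.apex (e ▸ h)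

theorem mem_symm {a b c : Ω} (hab : a ≠ b) (h : c ∈ S.blk a b) : b ∈ S.blk a c :=
  (S.eq_of_mem hab h).symm ▸ S.self hab

theorem line_card [Finite Ω] {a b : Ω} (hab : a ≠ b) : (insert a (S.blk a b)).ncard = p + 1 := by
  rw [Set.ncard_insert_of_notMem S.apex, S.card hab]

/-- Symmetric lines would form a design with `p + 1 ∣ (p² + 1) p`. -/
theorem false_of_symm [Finite Ω] (hp : p.Prime) (hn : Nat.card Ω = p ^ 2 + 1)
    (hsym : ∀ a b : Ω, a ≠ b → insert a (S.blk a b) = insert b (S.blk b a)) : False := by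
  classical
  have : Fintype Ω := Fintype.ofFinite Ω
  set L : Ω → Ω → Set Ω := fun a b => insert a (S.blk a b) with hL
  have hmem : ∀ a b c d : Ω, a ≠ b → c ∈ L a b → d ∈ L a b → c ≠ d → L c d = L a b := by
    have h1 : ∀ a b c : Ω, a ≠ b → c ∈ L a b → c ≠ a → L a c = L a b := by
      intro a b c hab hc hca
      rcases hc with hc | hc
      · exact absurd hc hca
      · simp only [hL, S.eq_of_mem hab hc]
    intro a b c d hab hc hd hcd
    by_cases hca : c = a
    · subst hca
      exact h1 _ _ _ hab hd (Ne.symm hcd)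
    · have h2 : L c a = L a b := (hsym c a hca).trans (h1 _ _ _ hab hc hca)
      by_cases hda : d = a
      · rwa [hda]
      · rw [← h2] at hd ⊢
        exact h1 _ _ _ hca hd (Ne.symm hcd)
  let s : Finset (Ω × Ω) := (Finset.univ : Finset Ω).offDiag
  have hfib : ∀ ℓ ∈ s.image (fun q => L q.1 q.2),
      (s.filter fun q => L q.1 q.2 = ℓ).card = (p + 1) * p := by
    intro ℓ hℓ
    obtain ⟨⟨a, b⟩, hab, rfl⟩ := Finset.mem_image.1 hℓ
    have hab : a ≠ b := (Finset.mem_offDiag.1 hab).2.2
    have : (s.filter fun q => L q.1 q.2 = L a b) = (L a b).toFinset.offDiag := by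
      ext ⟨c, d⟩
      simp only [s, Finset.mem_filter, Finset.mem_offDiag, Finset.mem_univ, true_and,
        Set.mem_toFinset]
      constructor
      · rintro ⟨hcd, h⟩
        exact ⟨h ▸ Set.mem_insert _ _, h ▸ Set.mem_insert_of_mem _ (S.self hcd), hcd⟩
      · rintro ⟨hc, hd, hcd⟩
        exact ⟨hcd, hmem a b c d hab hc hd hcd⟩
    rw [this, Finset.offDiag_card, Set.toFinset_card, ← Nat.card_eq_fintype_card,
      Nat.card_coe_set_eq]
    rw [show (L a b).ncard = p + 1 from S.line_card hab, ← Nat.mul_sub_one]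
    rfl
  have hdvd : (p + 1) * p ∣ s.card := by
    rw [Finset.card_eq_sum_card_image (fun q => L q.1 q.2) s]
    exact Finset.dvd_sum fun ℓ hℓ => (hfib ℓ hℓ).symm ▸ dvd_rfl
  rw [Finset.offDiag_card, Finset.card_univ, ← Nat.card_eq_fintype_card, hn, ← Nat.mul_sub_one,
    Nat.add_sub_cancel] at hdvd
  have h1 : p + 1 ∣ (p ^ 2 + 1) * p := by
    rw [show (p ^ 2 + 1) * p ^ 2 = ((p ^ 2 + 1) * p) * p by ring] at hdvd
    exact Nat.dvd_of_mul_dvd_mul_right hp.pos hdvd
  have hcop : (p + 1).Coprime p := by simp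
  have h2 := hcop.dvd_of_dvd_mul_right h1
  have h3 : p + 1 ∣ (p + 1) * (p - 1) := dvd_mul_right _ _
  have h4 : p ^ 2 + 1 - (p + 1) * (p - 1) = 2 := by
    obtain ⟨q, rfl⟩ : ∃ q, p = q + 1 := ⟨p - 1, by have := hp.pos; omega⟩
    have : (q + 1) ^ 2 + 1 = (q + 1 + 1) * (q + 1 - 1) + 2 := by simp; ring
    omega
  have h5 := Nat.le_of_dvd two_pos (h4 ▸ Nat.dvd_sub h2 h3)
  have := hp.two_le
  omega

/-- Two systems meeting only trivially cannot be twins. -/
theorem false_of_twins [Finite Ω] (hp : p.Prime) (T : Sys G Ω p) {a b : Ω} (hab : a ≠ b)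
    (hmeet : ∀ a b c : Ω, a ≠ b → c ∈ S.blk a b → c ∈ T.blk a b → c = b)
    (htw : ∀ a b : Ω, a ≠ b → insert b (S.blk b a) = insert a (T.blk a b)) : False := by
  set ℓ := insert a (S.blk a b) with hℓ
  obtain ⟨d, hd, hdb⟩ : ∃ d ∈ S.blk a b, d ≠ b :=
    Set.exists_ne_of_one_lt_ncard (by rw [S.card hab]; exact hp.one_lt) b
  have had : a ≠ d := S.ne_of_mem hd
  have h1 : insert b (T.blk b a) = ℓ := (htw b a hab.symm).symm
  have h2 : insert b (T.blk b d) = ℓ := by
    have hd' : d ∈ T.blk b a := by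
      have : d ∈ insert b (T.blk b a) := h1 ▸ Set.mem_insert_of_mem _ hd
      exact this.resolve_left hdb
    rw [T.eq_of_mem hab.symm hd', h1]
  have h3 : insert d (S.blk d b) = ℓ := (htw b d (Ne.symm hdb)).trans h2
  have ha' : a ∈ S.blk d b := by
    have : a ∈ insert d (S.blk d b) := h3 ▸ Set.mem_insert _ _
    exact this.resolve_left had
  have h4 : insert d (S.blk d a) = ℓ := by rw [S.eq_of_mem hdb ha', h3]
  have h5 : insert a (T.blk a d) = ℓ := (htw a d had).symm.trans h4
  have hb1 : b ∈ S.blk a d := S.mem_symm hab hd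
  have hb2 : b ∈ T.blk a d := by
    have : b ∈ insert a (T.blk a d) := h5 ▸ Set.mem_insert_of_mem _ (S.self hab)
    exact this.resolve_left hab.symm
  exact hdb (hmeet a d b had hb1 hb2).symm

/-- An equation at one pair spreads to all pairs. -/
theorem symm_all (h2 : MulAction.IsMultiplyPretransitive G Ω 2) {a b : Ω} (hab : a ≠ b)
    (h : insert a (S.blk a b) = insert b (S.blk b a)) :
    ∀ c d : Ω, c ≠ d → insert c (S.blk c d) = insert d (S.blk d c) := by
  intro c d hcd
  obtain ⟨g, rfl, rfl⟩ := MulAction.is_two_pretransitive_iff.1 h2 hab hcd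
  have := congrArg (fun s => (fun x => g • x) '' s) h
  simpa only [Set.image_insert_eq, S.smul_blk] using this

theorem twins_all (T : Sys G Ω p) (h2 : MulAction.IsMultiplyPretransitive G Ω 2) {a b : Ω}
    (hab : a ≠ b) (h : insert b (S.blk b a) = insert a (T.blk a b)) :
    ∀ c d : Ω, c ≠ d → insert d (S.blk d c) = insert c (T.blk c d) := by
  intro c d hcd
  obtain ⟨g, rfl, rfl⟩ := MulAction.is_two_pretransitive_iff.1 h2 hab hcd
  have := congrArg (fun s => (fun x => g • x) '' s) h
  simpa only [Set.image_insert_eq, S.smul_blk, T.smul_blk] using this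

end Sys

end CfsgLib.PSqOne
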